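import Cfsg.Agent.H210.EL.Gen
import Cfsg.Agent.H795.RowsA

/-!
# S4880, task EL: `Loc 7 3` for `F₄(q)` and `Loc 11 5` for `E₈(q)` (helper210)

`w` of type `A₂ × A₂` (order 3), resp. `A₄ × A₄` (order 5), or its negative; `v` its first factor.
-/

set_option autoImplicit false
set_option linter.unusedSectionVars false
set_option maxRecDepth 100000
set_option maxHeartbeats 8000000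

namespace Cfsg.Agent.H210.EL

open Cfsg Cfsg.Lie Cfsg.Lie.ChevalleyDatum
open Cfsg.Agent.ChevalleyStructure.CoxeterGeomTypes Cfsg.Agent.Nodes.RGDChev Cfsg.Agent.H129.WData Cfsg.Agent.H129.TorusChar Cfsg.Agent.H319.One
  Cfsg.Agent.BpExc.RowsUntw Cfsg.Agent.Tits.Roots Cfsg.Agent.Nodes.Reps Cfsg.Agent.BpExc Cfsg.Agent.Nodes

universe u

local instance : Fact (Nat.Prime 3) := ⟨by norm_num⟩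
local instance : Fact (Nat.Prime 5) := ⟨by norm_num⟩
local instance : Fact (Nat.Prime 7) := ⟨by norm_num⟩
local instance : Fact (Nat.Prime 11) := ⟨by norm_num⟩

theorem ord7_4 : orderOf ((4 : ℕ) : ZMod 7) = 3 := by
  exact orderOf_eq_prime (by decide +kernel) (by decide +kernel)

theorem ord7_2 : orderOf ((2 : ℕ) : ZMod 7) = 3 := by
  exact orderOf_eq_prime (by decide +kernel) (by decide +kernel)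

theorem ord11_4 : orderOf ((4 : ℕ) : ZMod 11) = 5 := by
  exact orderOf_eq_prime (by decide +kernel) (by decide +kernel)

theorem ord11_3 : orderOf ((3 : ℕ) : ZMod 11) = 5 := by
  exact orderOf_eq_prime (by decide +kernel) (by decide +kernel)

theorem ord11_9 : orderOf ((9 : ℕ) : ZMod 11) = 5 := by
  exact orderOf_eq_prime (by decide +kernel) (by decide +kernel)

theorem ord11_5 : orderOf ((5 : ℕ) : ZMod 11) = 5 := by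
  exact orderOf_eq_prime (by decide +kernel) (by decide +kernel)

namespace F4

/-- the Cartan matrix -/
def Am : Mat 4 := ![![2, -1, 0, 0], ![-1, 2, -2, 0], ![0, -1, 2, -1], ![0, 0, -1, 2]]

/-- `v` -/
def cv : List (Fin 4 × Mat 4) := [
    (0, ![![0, 1, 0, 0], ![-1, -1, 0, 0], ![2, 2, 1, 0], ![0, 0, 0, 1]]),
    (1, ![![1, 1, 0, 0], ![0, -1, 0, 0], ![0, 2, 1, 0], ![0, 0, 0, 1]])]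

/-- `w` -/
def cw : List (Fin 4 × Mat 4) := [
    (0, ![![0, 1, 0, 0], ![-1, -1, 0, 0], ![2, 2, 1, 1], ![-2, -4, -3, -2]]),
    (1, ![![1, 1, 0, 0], ![0, -1, 0, 0], ![0, 2, 1, 1], ![-2, -4, -3, -2]]),
    (2, ![![1, 0, 0, 0], ![0, 1, 0, 0], ![0, 0, 1, 1], ![-2, -4, -3, -2]]),
    (1, ![![1, 0, 0, 0], ![0, 1, 1, 0], ![0, 0, 0, 1], ![-2, -4, -3, -2]]),
    (0, ![![1, 1, 0, 0], ![0, 1, 1, 0], ![0, 0, 0, 1], ![-2, -4, -3, -2]]),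
    (2, ![![0, 1, 0, 0], ![1, 1, 1, 0], ![0, 0, 0, 1], ![-2, -4, -3, -2]]),
    (1, ![![0, 1, 1, 0], ![1, 1, 0, 0], ![0, 0, 1, 1], ![-2, -4, -3, -2]]),
    (2, ![![0, 1, 1, 0], ![1, 0, 0, 0], ![0, 2, 1, 1], ![-2, -4, -3, -2]]),
    (3, ![![0, 1, 0, 0], ![1, 0, 0, 0], ![0, 2, 2, 1], ![-2, -4, -3, -2]]),
    (2, ![![0, 1, 0, 0], ![1, 0, 0, 0], ![0, 2, 2, 1], ![-2, -4, -3, -1]]),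
    (1, ![![0, 1, 1, 0], ![1, 0, 0, 0], ![0, 2, 1, 1], ![-2, -4, -2, -1]]),
    (0, ![![0, 1, 1, 0], ![1, 1, 0, 0], ![0, 0, 1, 1], ![-2, -2, -2, -1]]),
    (2, ![![1, 1, 1, 0], ![0, 1, 0, 0], ![0, 0, 1, 1], ![0, -2, -2, -1]]),
    (1, ![![1, 1, 0, 0], ![0, 1, 1, 0], ![0, 0, 0, 1], ![0, -2, -1, -1]]),
    (2, ![![1, 0, 0, 0], ![0, 1, 1, 0], ![0, 0, 0, 1], ![0, 0, -1, -1]]),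
    (3, ![![1, 0, 0, 0], ![0, 1, 0, 0], ![0, 0, 1, 1], ![0, 0, 0, -1]])]

/-- `-w` -/
def cm : List (Fin 4 × Mat 4) := [
    (1, ![![0, -1, 0, 0], ![1, 1, 0, 0], ![-2, -2, -1, -1], ![2, 4, 3, 2]]),
    (3, ![![0, 1, 0, 0], ![1, 0, 0, 0], ![-2, -2, -1, -1], ![2, 4, 3, 2]]),
    (2, ![![0, 1, 0, 0], ![1, 0, 0, 0], ![-2, -2, -1, 0], ![2, 4, 3, 1]]),
    (1, ![![0, 1, 1, 0], ![1, 0, 0, 0], ![-2, -2, -1, 0], ![2, 4, 2, 1]]),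
    (0, ![![0, 1, 1, 0], ![1, 1, 0, 0], ![-2, -2, -1, 0], ![2, 2, 2, 1]]),
    (2, ![![1, 1, 1, 0], ![0, 1, 0, 0], ![0, -2, -1, 0], ![0, 2, 2, 1]]),
    (1, ![![1, 1, 0, 0], ![0, 1, 1, 0], ![0, -2, -1, 0], ![0, 2, 1, 1]]),
    (2, ![![1, 0, 0, 0], ![0, 1, 1, 0], ![0, 0, -1, 0], ![0, 0, 1, 1]])]

theorem hA : ∀ i j, Am i j = cartanOf chevF4 4 i j := by decide +kernel
theorem cv_ok : ChainOK Am cv := by decide +kernel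
theorem cw_ok : ChainOK Am cw := by decide +kernel
theorem cm_ok : ChainOK Am cm := by decide +kernel
theorem comm_w : CommOK (hd cv) (hd cw) := by decide +kernel
theorem comm_m : CommOK (hd cv) (hd cm) := by decide +kernel

theorem loc_w2 {F : Type u} [Field F] [Fintype F] (hF : (7 : F) ≠ 0) (hq : (Fintype.card F : ZMod 7) = 2) :
    Loc 7 3 ↥(chevF4.group F) :=
  loc_of_data (p := 7) f4T (by exact_mod_cast hF) invC_F4 hA cw_ok cv_ok comm_w (a := ![6, 5, 1, 0])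
    (b := ![0, 0, 1, 1]) (by rw [hq]; decide +kernel) (by rw [hq]; decide +kernel) (s := 2) (n := 4)
    (by decide +kernel) (by decide +kernel) (by decide +kernel) (ord7_4) (z := sr 0) (by rw [lam_sr]; decide +kernel)
    (by rw [lam_sr]; decide +kernel) (z' := sr 2) (by rw [lam_sr]; decide +kernel)

theorem loc_m5 {F : Type u} [Field F] [Fintype F] (hF : (7 : F) ≠ 0) (hq : (Fintype.card F : ZMod 7) = 5) :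
    Loc 7 3 ↥(chevF4.group F) :=
  loc_of_data (p := 7) f4T (by exact_mod_cast hF) invC_F4 hA cm_ok cv_ok comm_m (a := ![6, 5, 1, 0])
    (b := ![0, 0, 1, 1]) (by rw [hq]; decide +kernel) (by rw [hq]; decide +kernel) (s := 2) (n := 4)
    (by decide +kernel) (by decide +kernel) (by decide +kernel) (ord7_4) (z := sr 0) (by rw [lam_sr]; decide +kernel)
    (by rw [lam_sr]; decide +kernel) (z' := sr 2) (by rw [lam_sr]; decide +kernel)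

theorem loc_w4 {F : Type u} [Field F] [Fintype F] (hF : (7 : F) ≠ 0) (hq : (Fintype.card F : ZMod 7) = 4) :
    Loc 7 3 ↥(chevF4.group F) :=
  loc_of_data (p := 7) f4T (by exact_mod_cast hF) invC_F4 hA cw_ok cv_ok comm_w (a := ![1, 4, 1, 0])
    (b := ![0, 0, 5, 1]) (by rw [hq]; decide +kernel) (by rw [hq]; decide +kernel) (s := 4) (n := 2)
    (by decide +kernel) (by decide +kernel) (by decide +kernel) (ord7_2) (z := sr 0) (by rw [lam_sr]; decide +kernel)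
    (by rw [lam_sr]; decide +kernel) (z' := sr 2) (by rw [lam_sr]; decide +kernel)

theorem loc_m3 {F : Type u} [Field F] [Fintype F] (hF : (7 : F) ≠ 0) (hq : (Fintype.card F : ZMod 7) = 3) :
    Loc 7 3 ↥(chevF4.group F) :=
  loc_of_data (p := 7) f4T (by exact_mod_cast hF) invC_F4 hA cm_ok cv_ok comm_m (a := ![1, 4, 1, 0])
    (b := ![0, 0, 5, 1]) (by rw [hq]; decide +kernel) (by rw [hq]; decide +kernel) (s := 4) (n := 2)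
    (by decide +kernel) (by decide +kernel) (by decide +kernel) (ord7_2) (z := sr 0) (by rw [lam_sr]; decide +kernel)
    (by rw [lam_sr]; decide +kernel) (z' := sr 2) (by rw [lam_sr]; decide +kernel)

end F4

namespace E8

/-- the Cartan matrix -/
def Am : Mat 8 := ![![2, 0, -1, 0, 0, 0, 0, 0], ![0, 2, 0, -1, 0, 0, 0, 0], ![-1, 0, 2, -1, 0, 0, 0, 0], ![0, -1, -1, 2, -1, 0, 0, 0], ![0, 0, 0, -1, 2, -1, 0, 0], ![0, 0, 0, 0, -1, 2, -1, 0], ![0, 0, 0, 0, 0, -1, 2, -1], ![0, 0, 0, 0, 0, 0, -1, 2]]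

/-- `v` -/
def cv : List (Fin 8 × Mat 8) := [
    (0, ![![0, 0, 1, 0, 0, 0, 0, 0], ![-1, -1, -1, -1, 0, 0, 0, 0], ![0, 0, 0, 1, 0, 0, 0, 0], ![0, 1, 0, 0, 0, 0, 0, 0], ![1, 0, 1, 1, 1, 0, 0, 0], ![0, 0, 0, 0, 0, 1, 0, 0], ![0, 0, 0, 0, 0, 0, 1, 0], ![0, 0, 0, 0, 0, 0, 0, 1]]),
    (2, ![![1, 0, 1, 0, 0, 0, 0, 0], ![0, -1, -1, -1, 0, 0, 0, 0], ![0, 0, 0, 1, 0, 0, 0, 0], ![0, 1, 0, 0, 0, 0, 0, 0], ![0, 0, 1, 1, 1, 0, 0, 0], ![0, 0, 0, 0, 0, 1, 0, 0], ![0, 0, 0, 0, 0, 0, 1, 0], ![0, 0, 0, 0, 0, 0, 0, 1]]),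
    (3, ![![1, 0, 0, 0, 0, 0, 0, 0], ![0, -1, 0, -1, 0, 0, 0, 0], ![0, 0, 1, 1, 0, 0, 0, 0], ![0, 1, 0, 0, 0, 0, 0, 0], ![0, 0, 0, 1, 1, 0, 0, 0], ![0, 0, 0, 0, 0, 1, 0, 0], ![0, 0, 0, 0, 0, 0, 1, 0], ![0, 0, 0, 0, 0, 0, 0, 1]]),
    (1, ![![1, 0, 0, 0, 0, 0, 0, 0], ![0, -1, 0, 0, 0, 0, 0, 0], ![0, 0, 1, 0, 0, 0, 0, 0], ![0, 1, 0, 1, 0, 0, 0, 0], ![0, 0, 0, 0, 1, 0, 0, 0], ![0, 0, 0, 0, 0, 1, 0, 0], ![0, 0, 0, 0, 0, 0, 1, 0], ![0, 0, 0, 0, 0, 0, 0, 1]])]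

/-- `w` -/
def cw : List (Fin 8 × Mat 8) := [
    (0, ![![0, 0, 1, 0, 0, 0, 0, 0], ![-1, -1, -1, -1, 0, 0, 0, 0], ![0, 0, 0, 1, 0, 0, 0, 0], ![0, 1, 0, 0, 0, 0, 0, 0], ![1, 0, 1, 1, 1, 1, 0, 0], ![0, 0, 0, 0, 0, 0, 1, 0], ![0, 0, 0, 0, 0, 0, 0, 1], ![-2, -3, -4, -6, -5, -4, -3, -2]]),
    (2, ![![1, 0, 1, 0, 0, 0, 0, 0], ![0, -1, -1, -1, 0, 0, 0, 0], ![0, 0, 0, 1, 0, 0, 0, 0], ![0, 1, 0, 0, 0, 0, 0, 0], ![0, 0, 1, 1, 1, 1, 0, 0], ![0, 0, 0, 0, 0, 0, 1, 0], ![0, 0, 0, 0, 0, 0, 0, 1], ![-2, -3, -4, -6, -5, -4, -3, -2]]),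
    (3, ![![1, 0, 0, 0, 0, 0, 0, 0], ![0, -1, 0, -1, 0, 0, 0, 0], ![0, 0, 1, 1, 0, 0, 0, 0], ![0, 1, 0, 0, 0, 0, 0, 0], ![0, 0, 0, 1, 1, 1, 0, 0], ![0, 0, 0, 0, 0, 0, 1, 0], ![0, 0, 0, 0, 0, 0, 0, 1], ![-2, -3, -4, -6, -5, -4, -3, -2]]),
    (1, ![![1, 0, 0, 0, 0, 0, 0, 0], ![0, -1, 0, 0, 0, 0, 0, 0], ![0, 0, 1, 0, 0, 0, 0, 0], ![0, 1, 0, 1, 0, 0, 0, 0], ![0, 0, 0, 0, 1, 1, 0, 0], ![0, 0, 0, 0, 0, 0, 1, 0], ![0, 0, 0, 0, 0, 0, 0, 1], ![-2, -3, -4, -6, -5, -4, -3, -2]]),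
    (4, ![![1, 0, 0, 0, 0, 0, 0, 0], ![0, 1, 0, 0, 0, 0, 0, 0], ![0, 0, 1, 0, 0, 0, 0, 0], ![0, 0, 0, 1, 0, 0, 0, 0], ![0, 0, 0, 0, 1, 1, 0, 0], ![0, 0, 0, 0, 0, 0, 1, 0], ![0, 0, 0, 0, 0, 0, 0, 1], ![-2, -3, -4, -6, -5, -4, -3, -2]]),
    (3, ![![1, 0, 0, 0, 0, 0, 0, 0], ![0, 1, 0, 0, 0, 0, 0, 0], ![0, 0, 1, 0, 0, 0, 0, 0], ![0, 0, 0, 1, 1, 0, 0, 0], ![0, 0, 0, 0, 0, 1, 0, 0], ![0, 0, 0, 0, 0, 0, 1, 0], ![0, 0, 0, 0, 0, 0, 0, 1], ![-2, -3, -4, -6, -5, -4, -3, -2]]),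
    (1, ![![1, 0, 0, 0, 0, 0, 0, 0], ![0, 1, 0, 1, 0, 0, 0, 0], ![0, 0, 1, 1, 0, 0, 0, 0], ![0, 0, 0, 0, 1, 0, 0, 0], ![0, 0, 0, 0, 0, 1, 0, 0], ![0, 0, 0, 0, 0, 0, 1, 0], ![0, 0, 0, 0, 0, 0, 0, 1], ![-2, -3, -4, -6, -5, -4, -3, -2]]),
    (2, ![![1, 0, 0, 0, 0, 0, 0, 0], ![0, 0, 0, 1, 0, 0, 0, 0], ![0, 1, 1, 1, 0, 0, 0, 0], ![0, 0, 0, 0, 1, 0, 0, 0], ![0, 0, 0, 0, 0, 1, 0, 0], ![0, 0, 0, 0, 0, 0, 1, 0], ![0, 0, 0, 0, 0, 0, 0, 1], ![-2, -3, -4, -6, -5, -4, -3, -2]]),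
    (0, ![![1, 0, 1, 0, 0, 0, 0, 0], ![0, 0, 1, 1, 0, 0, 0, 0], ![0, 1, 0, 1, 0, 0, 0, 0], ![0, 0, 0, 0, 1, 0, 0, 0], ![0, 0, 0, 0, 0, 1, 0, 0], ![0, 0, 0, 0, 0, 0, 1, 0], ![0, 0, 0, 0, 0, 0, 0, 1], ![-2, -3, -4, -6, -5, -4, -3, -2]]),
    (3, ![![0, 0, 1, 0, 0, 0, 0, 0], ![1, 0, 1, 1, 0, 0, 0, 0], ![0, 1, 0, 1, 0, 0, 0, 0], ![0, 0, 0, 0, 1, 0, 0, 0], ![0, 0, 0, 0, 0, 1, 0, 0], ![0, 0, 0, 0, 0, 0, 1, 0], ![0, 0, 0, 0, 0, 0, 0, 1], ![-2, -3, -4, -6, -5, -4, -3, -2]]),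
    (2, ![![0, 0, 1, 1, 0, 0, 0, 0], ![1, 0, 1, 0, 0, 0, 0, 0], ![0, 1, 0, 0, 0, 0, 0, 0], ![0, 0, 0, 1, 1, 0, 0, 0], ![0, 0, 0, 0, 0, 1, 0, 0], ![0, 0, 0, 0, 0, 0, 1, 0], ![0, 0, 0, 0, 0, 0, 0, 1], ![-2, -3, -4, -6, -5, -4, -3, -2]]),
    (4, ![![0, 0, 0, 1, 0, 0, 0, 0], ![1, 0, 0, 0, 0, 0, 0, 0], ![0, 1, 0, 0, 0, 0, 0, 0], ![0, 0, 1, 1, 1, 0, 0, 0], ![0, 0, 0, 0, 0, 1, 0, 0], ![0, 0, 0, 0, 0, 0, 1, 0], ![0, 0, 0, 0, 0, 0, 0, 1], ![-2, -3, -4, -6, -5, -4, -3, -2]]),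
    (3, ![![0, 0, 0, 1, 1, 0, 0, 0], ![1, 0, 0, 0, 0, 0, 0, 0], ![0, 1, 0, 0, 0, 0, 0, 0], ![0, 0, 1, 1, 0, 0, 0, 0], ![0, 0, 0, 0, 1, 1, 0, 0], ![0, 0, 0, 0, 0, 0, 1, 0], ![0, 0, 0, 0, 0, 0, 0, 1], ![-2, -3, -4, -6, -5, -4, -3, -2]]),
    (1, ![![0, 0, 0, 0, 1, 0, 0, 0], ![1, 0, 0, 0, 0, 0, 0, 0], ![0, 1, 0, 1, 0, 0, 0, 0], ![0, 0, 1, 0, 0, 0, 0, 0], ![0, 0, 0, 1, 1, 1, 0, 0], ![0, 0, 0, 0, 0, 0, 1, 0], ![0, 0, 0, 0, 0, 0, 0, 1], ![-2, -3, -4, -6, -5, -4, -3, -2]]),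
    (5, ![![0, 0, 0, 0, 1, 0, 0, 0], ![1, 0, 0, 0, 0, 0, 0, 0], ![0, 0, 0, 1, 0, 0, 0, 0], ![0, 0, 1, 0, 0, 0, 0, 0], ![0, 1, 0, 1, 1, 1, 0, 0], ![0, 0, 0, 0, 0, 0, 1, 0], ![0, 0, 0, 0, 0, 0, 0, 1], ![-2, -3, -4, -6, -5, -4, -3, -2]]),
    (4, ![![0, 0, 0, 0, 1, 1, 0, 0], ![1, 0, 0, 0, 0, 0, 0, 0], ![0, 0, 0, 1, 0, 0, 0, 0], ![0, 0, 1, 0, 0, 0, 0, 0], ![0, 1, 0, 1, 1, 0, 0, 0], ![0, 0, 0, 0, 0, 1, 1, 0], ![0, 0, 0, 0, 0, 0, 0, 1], ![-2, -3, -4, -6, -5, -4, -3, -2]]),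
    (3, ![![0, 0, 0, 0, 0, 1, 0, 0], ![1, 0, 0, 0, 0, 0, 0, 0], ![0, 0, 0, 1, 1, 0, 0, 0], ![0, 0, 1, 0, 0, 0, 0, 0], ![0, 1, 0, 1, 0, 0, 0, 0], ![0, 0, 0, 0, 1, 1, 1, 0], ![0, 0, 0, 0, 0, 0, 0, 1], ![-2, -3, -4, -6, -5, -4, -3, -2]]),
    (2, ![![0, 0, 0, 0, 0, 1, 0, 0], ![1, 0, 0, 0, 0, 0, 0, 0], ![0, 0, 0, 0, 1, 0, 0, 0], ![0, 0, 1, 1, 0, 0, 0, 0], ![0, 1, 0, 0, 0, 0, 0, 0], ![0, 0, 0, 1, 1, 1, 1, 0], ![0, 0, 0, 0, 0, 0, 0, 1], ![-2, -3, -4, -6, -5, -4, -3, -2]]),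
    (0, ![![0, 0, 0, 0, 0, 1, 0, 0], ![1, 0, 1, 0, 0, 0, 0, 0], ![0, 0, 0, 0, 1, 0, 0, 0], ![0, 0, 0, 1, 0, 0, 0, 0], ![0, 1, 0, 0, 0, 0, 0, 0], ![0, 0, 1, 1, 1, 1, 1, 0], ![0, 0, 0, 0, 0, 0, 0, 1], ![-2, -3, -4, -6, -5, -4, -3, -2]]),
    (6, ![![0, 0, 0, 0, 0, 1, 0, 0], ![0, 0, 1, 0, 0, 0, 0, 0], ![0, 0, 0, 0, 1, 0, 0, 0], ![0, 0, 0, 1, 0, 0, 0, 0], ![0, 1, 0, 0, 0, 0, 0, 0], ![1, 0, 1, 1, 1, 1, 1, 0], ![0, 0, 0, 0, 0, 0, 0, 1], ![-2, -3, -4, -6, -5, -4, -3, -2]]),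
    (5, ![![0, 0, 0, 0, 0, 1, 1, 0], ![0, 0, 1, 0, 0, 0, 0, 0], ![0, 0, 0, 0, 1, 0, 0, 0], ![0, 0, 0, 1, 0, 0, 0, 0], ![0, 1, 0, 0, 0, 0, 0, 0], ![1, 0, 1, 1, 1, 1, 0, 0], ![0, 0, 0, 0, 0, 0, 1, 1], ![-2, -3, -4, -6, -5, -4, -3, -2]]),
    (4, ![![0, 0, 0, 0, 0, 0, 1, 0], ![0, 0, 1, 0, 0, 0, 0, 0], ![0, 0, 0, 0, 1, 1, 0, 0], ![0, 0, 0, 1, 0, 0, 0, 0], ![0, 1, 0, 0, 0, 0, 0, 0], ![1, 0, 1, 1, 1, 0, 0, 0], ![0, 0, 0, 0, 0, 1, 1, 1], ![-2, -3, -4, -6, -5, -4, -3, -2]]),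
    (3, ![![0, 0, 0, 0, 0, 0, 1, 0], ![0, 0, 1, 0, 0, 0, 0, 0], ![0, 0, 0, 0, 0, 1, 0, 0], ![0, 0, 0, 1, 1, 0, 0, 0], ![0, 1, 0, 0, 0, 0, 0, 0], ![1, 0, 1, 1, 0, 0, 0, 0], ![0, 0, 0, 0, 1, 1, 1, 1], ![-2, -3, -4, -6, -5, -4, -3, -2]]),
    (1, ![![0, 0, 0, 0, 0, 0, 1, 0], ![0, 0, 1, 1, 0, 0, 0, 0], ![0, 0, 0, 0, 0, 1, 0, 0], ![0, 0, 0, 0, 1, 0, 0, 0], ![0, 1, 0, 1, 0, 0, 0, 0], ![1, 0, 1, 0, 0, 0, 0, 0], ![0, 0, 0, 1, 1, 1, 1, 1], ![-2, -3, -4, -6, -5, -4, -3, -2]]),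
    (2, ![![0, 0, 0, 0, 0, 0, 1, 0], ![0, 1, 1, 1, 0, 0, 0, 0], ![0, 0, 0, 0, 0, 1, 0, 0], ![0, 0, 0, 0, 1, 0, 0, 0], ![0, 0, 0, 1, 0, 0, 0, 0], ![1, 0, 1, 0, 0, 0, 0, 0], ![0, 1, 0, 1, 1, 1, 1, 1], ![-2, -3, -4, -6, -5, -4, -3, -2]]),
    (3, ![![0, 0, 0, 0, 0, 0, 1, 0], ![0, 1, 0, 1, 0, 0, 0, 0], ![0, 0, 0, 0, 0, 1, 0, 0], ![0, 0, 0, 0, 1, 0, 0, 0], ![0, 0, 1, 1, 0, 0, 0, 0], ![1, 0, 0, 0, 0, 0, 0, 0], ![0, 1, 1, 1, 1, 1, 1, 1], ![-2, -3, -4, -6, -5, -4, -3, -2]]),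
    (4, ![![0, 0, 0, 0, 0, 0, 1, 0], ![0, 1, 0, 0, 0, 0, 0, 0], ![0, 0, 0, 0, 0, 1, 0, 0], ![0, 0, 0, 1, 1, 0, 0, 0], ![0, 0, 1, 0, 0, 0, 0, 0], ![1, 0, 0, 0, 0, 0, 0, 0], ![0, 1, 1, 2, 1, 1, 1, 1], ![-2, -3, -4, -6, -5, -4, -3, -2]]),
    (5, ![![0, 0, 0, 0, 0, 0, 1, 0], ![0, 1, 0, 0, 0, 0, 0, 0], ![0, 0, 0, 0, 1, 1, 0, 0], ![0, 0, 0, 1, 0, 0, 0, 0], ![0, 0, 1, 0, 0, 0, 0, 0], ![1, 0, 0, 0, 0, 0, 0, 0], ![0, 1, 1, 2, 2, 1, 1, 1], ![-2, -3, -4, -6, -5, -4, -3, -2]]),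
    (6, ![![0, 0, 0, 0, 0, 1, 1, 0], ![0, 1, 0, 0, 0, 0, 0, 0], ![0, 0, 0, 0, 1, 0, 0, 0], ![0, 0, 0, 1, 0, 0, 0, 0], ![0, 0, 1, 0, 0, 0, 0, 0], ![1, 0, 0, 0, 0, 0, 0, 0], ![0, 1, 1, 2, 2, 2, 1, 1], ![-2, -3, -4, -6, -5, -4, -3, -2]]),
    (7, ![![0, 0, 0, 0, 0, 1, 0, 0], ![0, 1, 0, 0, 0, 0, 0, 0], ![0, 0, 0, 0, 1, 0, 0, 0], ![0, 0, 0, 1, 0, 0, 0, 0], ![0, 0, 1, 0, 0, 0, 0, 0], ![1, 0, 0, 0, 0, 0, 0, 0], ![0, 1, 1, 2, 2, 2, 2, 1], ![-2, -3, -4, -6, -5, -4, -3, -2]]),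
    (6, ![![0, 0, 0, 0, 0, 1, 0, 0], ![0, 1, 0, 0, 0, 0, 0, 0], ![0, 0, 0, 0, 1, 0, 0, 0], ![0, 0, 0, 1, 0, 0, 0, 0], ![0, 0, 1, 0, 0, 0, 0, 0], ![1, 0, 0, 0, 0, 0, 0, 0], ![0, 1, 1, 2, 2, 2, 2, 1], ![-2, -3, -4, -6, -5, -4, -3, -1]]),
    (5, ![![0, 0, 0, 0, 0, 1, 1, 0], ![0, 1, 0, 0, 0, 0, 0, 0], ![0, 0, 0, 0, 1, 0, 0, 0], ![0, 0, 0, 1, 0, 0, 0, 0], ![0, 0, 1, 0, 0, 0, 0, 0], ![1, 0, 0, 0, 0, 0, 0, 0], ![0, 1, 1, 2, 2, 2, 1, 1], ![-2, -3, -4, -6, -5, -4, -2, -1]]),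
    (4, ![![0, 0, 0, 0, 0, 0, 1, 0], ![0, 1, 0, 0, 0, 0, 0, 0], ![0, 0, 0, 0, 1, 1, 0, 0], ![0, 0, 0, 1, 0, 0, 0, 0], ![0, 0, 1, 0, 0, 0, 0, 0], ![1, 0, 0, 0, 0, 0, 0, 0], ![0, 1, 1, 2, 2, 1, 1, 1], ![-2, -3, -4, -6, -5, -3, -2, -1]]),
    (3, ![![0, 0, 0, 0, 0, 0, 1, 0], ![0, 1, 0, 0, 0, 0, 0, 0], ![0, 0, 0, 0, 0, 1, 0, 0], ![0, 0, 0, 1, 1, 0, 0, 0], ![0, 0, 1, 0, 0, 0, 0, 0], ![1, 0, 0, 0, 0, 0, 0, 0], ![0, 1, 1, 2, 1, 1, 1, 1], ![-2, -3, -4, -6, -4, -3, -2, -1]]),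
    (1, ![![0, 0, 0, 0, 0, 0, 1, 0], ![0, 1, 0, 1, 0, 0, 0, 0], ![0, 0, 0, 0, 0, 1, 0, 0], ![0, 0, 0, 0, 1, 0, 0, 0], ![0, 0, 1, 1, 0, 0, 0, 0], ![1, 0, 0, 0, 0, 0, 0, 0], ![0, 1, 1, 1, 1, 1, 1, 1], ![-2, -3, -4, -5, -4, -3, -2, -1]]),
    (2, ![![0, 0, 0, 0, 0, 0, 1, 0], ![0, 0, 0, 1, 0, 0, 0, 0], ![0, 0, 0, 0, 0, 1, 0, 0], ![0, 0, 0, 0, 1, 0, 0, 0], ![0, 1, 1, 1, 0, 0, 0, 0], ![1, 0, 0, 0, 0, 0, 0, 0], ![0, 0, 1, 1, 1, 1, 1, 1], ![-2, -2, -4, -5, -4, -3, -2, -1]]),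
    (0, ![![0, 0, 0, 0, 0, 0, 1, 0], ![0, 0, 1, 1, 0, 0, 0, 0], ![0, 0, 0, 0, 0, 1, 0, 0], ![0, 0, 0, 0, 1, 0, 0, 0], ![0, 1, 0, 1, 0, 0, 0, 0], ![1, 0, 1, 0, 0, 0, 0, 0], ![0, 0, 0, 1, 1, 1, 1, 1], ![-2, -2, -3, -5, -4, -3, -2, -1]]),
    (3, ![![0, 0, 0, 0, 0, 0, 1, 0], ![1, 0, 1, 1, 0, 0, 0, 0], ![0, 0, 0, 0, 0, 1, 0, 0], ![0, 0, 0, 0, 1, 0, 0, 0], ![0, 1, 0, 1, 0, 0, 0, 0], ![0, 0, 1, 0, 0, 0, 0, 0], ![0, 0, 0, 1, 1, 1, 1, 1], ![-1, -2, -3, -5, -4, -3, -2, -1]]),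
    (2, ![![0, 0, 0, 0, 0, 0, 1, 0], ![1, 0, 1, 0, 0, 0, 0, 0], ![0, 0, 0, 0, 0, 1, 0, 0], ![0, 0, 0, 1, 1, 0, 0, 0], ![0, 1, 0, 0, 0, 0, 0, 0], ![0, 0, 1, 1, 0, 0, 0, 0], ![0, 0, 0, 0, 1, 1, 1, 1], ![-1, -2, -3, -4, -4, -3, -2, -1]]),
    (4, ![![0, 0, 0, 0, 0, 0, 1, 0], ![1, 0, 0, 0, 0, 0, 0, 0], ![0, 0, 0, 0, 0, 1, 0, 0], ![0, 0, 1, 1, 1, 0, 0, 0], ![0, 1, 0, 0, 0, 0, 0, 0], ![0, 0, 0, 1, 0, 0, 0, 0], ![0, 0, 0, 0, 1, 1, 1, 1], ![-1, -2, -2, -4, -4, -3, -2, -1]]),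
    (3, ![![0, 0, 0, 0, 0, 0, 1, 0], ![1, 0, 0, 0, 0, 0, 0, 0], ![0, 0, 0, 0, 1, 1, 0, 0], ![0, 0, 1, 1, 0, 0, 0, 0], ![0, 1, 0, 0, 0, 0, 0, 0], ![0, 0, 0, 1, 1, 0, 0, 0], ![0, 0, 0, 0, 0, 1, 1, 1], ![-1, -2, -2, -4, -3, -3, -2, -1]]),
    (1, ![![0, 0, 0, 0, 0, 0, 1, 0], ![1, 0, 0, 0, 0, 0, 0, 0], ![0, 0, 0, 1, 1, 1, 0, 0], ![0, 0, 1, 0, 0, 0, 0, 0], ![0, 1, 0, 1, 0, 0, 0, 0], ![0, 0, 0, 0, 1, 0, 0, 0], ![0, 0, 0, 0, 0, 1, 1, 1], ![-1, -2, -2, -3, -3, -3, -2, -1]]),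
    (5, ![![0, 0, 0, 0, 0, 0, 1, 0], ![1, 0, 0, 0, 0, 0, 0, 0], ![0, 1, 0, 1, 1, 1, 0, 0], ![0, 0, 1, 0, 0, 0, 0, 0], ![0, 0, 0, 1, 0, 0, 0, 0], ![0, 0, 0, 0, 1, 0, 0, 0], ![0, 0, 0, 0, 0, 1, 1, 1], ![-1, -1, -2, -3, -3, -3, -2, -1]]),
    (4, ![![0, 0, 0, 0, 0, 1, 1, 0], ![1, 0, 0, 0, 0, 0, 0, 0], ![0, 1, 0, 1, 1, 0, 0, 0], ![0, 0, 1, 0, 0, 0, 0, 0], ![0, 0, 0, 1, 0, 0, 0, 0], ![0, 0, 0, 0, 1, 1, 0, 0], ![0, 0, 0, 0, 0, 0, 1, 1], ![-1, -1, -2, -3, -3, -2, -2, -1]]),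
    (3, ![![0, 0, 0, 0, 1, 1, 1, 0], ![1, 0, 0, 0, 0, 0, 0, 0], ![0, 1, 0, 1, 0, 0, 0, 0], ![0, 0, 1, 0, 0, 0, 0, 0], ![0, 0, 0, 1, 1, 0, 0, 0], ![0, 0, 0, 0, 0, 1, 0, 0], ![0, 0, 0, 0, 0, 0, 1, 1], ![-1, -1, -2, -3, -2, -2, -2, -1]]),
    (2, ![![0, 0, 0, 1, 1, 1, 1, 0], ![1, 0, 0, 0, 0, 0, 0, 0], ![0, 1, 0, 0, 0, 0, 0, 0], ![0, 0, 1, 1, 0, 0, 0, 0], ![0, 0, 0, 0, 1, 0, 0, 0], ![0, 0, 0, 0, 0, 1, 0, 0], ![0, 0, 0, 0, 0, 0, 1, 1], ![-1, -1, -2, -2, -2, -2, -2, -1]]),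
    (0, ![![0, 0, 1, 1, 1, 1, 1, 0], ![1, 0, 1, 0, 0, 0, 0, 0], ![0, 1, 0, 0, 0, 0, 0, 0], ![0, 0, 0, 1, 0, 0, 0, 0], ![0, 0, 0, 0, 1, 0, 0, 0], ![0, 0, 0, 0, 0, 1, 0, 0], ![0, 0, 0, 0, 0, 0, 1, 1], ![-1, -1, -1, -2, -2, -2, -2, -1]]),
    (6, ![![1, 0, 1, 1, 1, 1, 1, 0], ![0, 0, 1, 0, 0, 0, 0, 0], ![0, 1, 0, 0, 0, 0, 0, 0], ![0, 0, 0, 1, 0, 0, 0, 0], ![0, 0, 0, 0, 1, 0, 0, 0], ![0, 0, 0, 0, 0, 1, 0, 0], ![0, 0, 0, 0, 0, 0, 1, 1], ![0, -1, -1, -2, -2, -2, -2, -1]]),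
    (5, ![![1, 0, 1, 1, 1, 1, 0, 0], ![0, 0, 1, 0, 0, 0, 0, 0], ![0, 1, 0, 0, 0, 0, 0, 0], ![0, 0, 0, 1, 0, 0, 0, 0], ![0, 0, 0, 0, 1, 0, 0, 0], ![0, 0, 0, 0, 0, 1, 1, 0], ![0, 0, 0, 0, 0, 0, 0, 1], ![0, -1, -1, -2, -2, -2, -1, -1]]),
    (4, ![![1, 0, 1, 1, 1, 0, 0, 0], ![0, 0, 1, 0, 0, 0, 0, 0], ![0, 1, 0, 0, 0, 0, 0, 0], ![0, 0, 0, 1, 0, 0, 0, 0], ![0, 0, 0, 0, 1, 1, 0, 0], ![0, 0, 0, 0, 0, 0, 1, 0], ![0, 0, 0, 0, 0, 0, 0, 1], ![0, -1, -1, -2, -2, -1, -1, -1]]),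
    (3, ![![1, 0, 1, 1, 0, 0, 0, 0], ![0, 0, 1, 0, 0, 0, 0, 0], ![0, 1, 0, 0, 0, 0, 0, 0], ![0, 0, 0, 1, 1, 0, 0, 0], ![0, 0, 0, 0, 0, 1, 0, 0], ![0, 0, 0, 0, 0, 0, 1, 0], ![0, 0, 0, 0, 0, 0, 0, 1], ![0, -1, -1, -2, -1, -1, -1, -1]]),
    (1, ![![1, 0, 1, 0, 0, 0, 0, 0], ![0, 0, 1, 1, 0, 0, 0, 0], ![0, 1, 0, 1, 0, 0, 0, 0], ![0, 0, 0, 0, 1, 0, 0, 0], ![0, 0, 0, 0, 0, 1, 0, 0], ![0, 0, 0, 0, 0, 0, 1, 0], ![0, 0, 0, 0, 0, 0, 0, 1], ![0, -1, -1, -1, -1, -1, -1, -1]]),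
    (2, ![![1, 0, 1, 0, 0, 0, 0, 0], ![0, 1, 1, 1, 0, 0, 0, 0], ![0, 0, 0, 1, 0, 0, 0, 0], ![0, 0, 0, 0, 1, 0, 0, 0], ![0, 0, 0, 0, 0, 1, 0, 0], ![0, 0, 0, 0, 0, 0, 1, 0], ![0, 0, 0, 0, 0, 0, 0, 1], ![0, 0, -1, -1, -1, -1, -1, -1]]),
    (3, ![![1, 0, 0, 0, 0, 0, 0, 0], ![0, 1, 0, 1, 0, 0, 0, 0], ![0, 0, 1, 1, 0, 0, 0, 0], ![0, 0, 0, 0, 1, 0, 0, 0], ![0, 0, 0, 0, 0, 1, 0, 0], ![0, 0, 0, 0, 0, 0, 1, 0], ![0, 0, 0, 0, 0, 0, 0, 1], ![0, 0, 0, -1, -1, -1, -1, -1]]),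
    (4, ![![1, 0, 0, 0, 0, 0, 0, 0], ![0, 1, 0, 0, 0, 0, 0, 0], ![0, 0, 1, 0, 0, 0, 0, 0], ![0, 0, 0, 1, 1, 0, 0, 0], ![0, 0, 0, 0, 0, 1, 0, 0], ![0, 0, 0, 0, 0, 0, 1, 0], ![0, 0, 0, 0, 0, 0, 0, 1], ![0, 0, 0, 0, -1, -1, -1, -1]]),
    (5, ![![1, 0, 0, 0, 0, 0, 0, 0], ![0, 1, 0, 0, 0, 0, 0, 0], ![0, 0, 1, 0, 0, 0, 0, 0], ![0, 0, 0, 1, 0, 0, 0, 0], ![0, 0, 0, 0, 1, 1, 0, 0], ![0, 0, 0, 0, 0, 0, 1, 0], ![0, 0, 0, 0, 0, 0, 0, 1], ![0, 0, 0, 0, 0, -1, -1, -1]]),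
    (6, ![![1, 0, 0, 0, 0, 0, 0, 0], ![0, 1, 0, 0, 0, 0, 0, 0], ![0, 0, 1, 0, 0, 0, 0, 0], ![0, 0, 0, 1, 0, 0, 0, 0], ![0, 0, 0, 0, 1, 0, 0, 0], ![0, 0, 0, 0, 0, 1, 1, 0], ![0, 0, 0, 0, 0, 0, 0, 1], ![0, 0, 0, 0, 0, 0, -1, -1]]),
    (7, ![![1, 0, 0, 0, 0, 0, 0, 0], ![0, 1, 0, 0, 0, 0, 0, 0], ![0, 0, 1, 0, 0, 0, 0, 0], ![0, 0, 0, 1, 0, 0, 0, 0], ![0, 0, 0, 0, 1, 0, 0, 0], ![0, 0, 0, 0, 0, 1, 0, 0], ![0, 0, 0, 0, 0, 0, 1, 1], ![0, 0, 0, 0, 0, 0, 0, -1]])]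

/-- `-w` -/
def cm : List (Fin 8 × Mat 8) := [
    (1, ![![0, 0, -1, 0, 0, 0, 0, 0], ![1, 1, 1, 1, 0, 0, 0, 0], ![0, 0, 0, -1, 0, 0, 0, 0], ![0, -1, 0, 0, 0, 0, 0, 0], ![-1, 0, -1, -1, -1, -1, 0, 0], ![0, 0, 0, 0, 0, 0, -1, 0], ![0, 0, 0, 0, 0, 0, 0, -1], ![2, 3, 4, 6, 5, 4, 3, 2]]),
    (2, ![![0, 0, -1, 0, 0, 0, 0, 0], ![1, 0, 1, 1, 0, 0, 0, 0], ![0, -1, 0, -1, 0, 0, 0, 0], ![0, 1, 0, 0, 0, 0, 0, 0], ![-1, -1, -1, -1, -1, -1, 0, 0], ![0, 0, 0, 0, 0, 0, -1, 0], ![0, 0, 0, 0, 0, 0, 0, -1], ![2, 3, 4, 6, 5, 4, 3, 2]]),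
    (3, ![![0, 0, 1, 0, 0, 0, 0, 0], ![1, 0, 1, 1, 0, 0, 0, 0], ![0, -1, -1, -1, 0, 0, 0, 0], ![0, 1, 0, 0, 0, 0, 0, 0], ![-1, -1, -1, -1, -1, -1, 0, 0], ![0, 0, 0, 0, 0, 0, -1, 0], ![0, 0, 0, 0, 0, 0, 0, -1], ![2, 3, 4, 6, 5, 4, 3, 2]]),
    (1, ![![0, 0, 1, 1, 0, 0, 0, 0], ![1, 0, 1, 0, 0, 0, 0, 0], ![0, -1, -1, -1, 0, 0, 0, 0], ![0, 1, 0, 1, 0, 0, 0, 0], ![-1, -1, -1, -2, -1, -1, 0, 0], ![0, 0, 0, 0, 0, 0, -1, 0], ![0, 0, 0, 0, 0, 0, 0, -1], ![2, 3, 4, 6, 5, 4, 3, 2]]),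
    (2, ![![0, 1, 1, 1, 0, 0, 0, 0], ![1, 0, 1, 0, 0, 0, 0, 0], ![0, 0, -1, -1, 0, 0, 0, 0], ![0, 0, 0, 1, 0, 0, 0, 0], ![-1, -1, -1, -2, -1, -1, 0, 0], ![0, 0, 0, 0, 0, 0, -1, 0], ![0, 0, 0, 0, 0, 0, 0, -1], ![2, 3, 4, 6, 5, 4, 3, 2]]),
    (3, ![![0, 1, 0, 1, 0, 0, 0, 0], ![1, 0, 0, 0, 0, 0, 0, 0], ![0, 0, 0, -1, 0, 0, 0, 0], ![0, 0, 1, 1, 0, 0, 0, 0], ![-1, -1, -2, -2, -1, -1, 0, 0], ![0, 0, 0, 0, 0, 0, -1, 0], ![0, 0, 0, 0, 0, 0, 0, -1], ![2, 3, 4, 6, 5, 4, 3, 2]]),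
    (5, ![![0, 1, 0, 0, 0, 0, 0, 0], ![1, 0, 0, 0, 0, 0, 0, 0], ![0, 0, 0, 1, 0, 0, 0, 0], ![0, 0, 1, 0, 0, 0, 0, 0], ![-1, -1, -2, -2, -1, -1, 0, 0], ![0, 0, 0, 0, 0, 0, -1, 0], ![0, 0, 0, 0, 0, 0, 0, -1], ![2, 3, 4, 6, 5, 4, 3, 2]]),
    (4, ![![0, 1, 0, 0, 0, 0, 0, 0], ![1, 0, 0, 0, 0, 0, 0, 0], ![0, 0, 0, 1, 0, 0, 0, 0], ![0, 0, 1, 0, 0, 0, 0, 0], ![-1, -1, -2, -2, -1, 0, 0, 0], ![0, 0, 0, 0, 0, -1, -1, 0], ![0, 0, 0, 0, 0, 0, 0, -1], ![2, 3, 4, 6, 5, 4, 3, 2]]),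
    (3, ![![0, 1, 0, 0, 0, 0, 0, 0], ![1, 0, 0, 0, 0, 0, 0, 0], ![0, 0, 0, 1, 1, 0, 0, 0], ![0, 0, 1, 0, 0, 0, 0, 0], ![-1, -1, -2, -2, -1, 0, 0, 0], ![0, 0, 0, 0, -1, -1, -1, 0], ![0, 0, 0, 0, 0, 0, 0, -1], ![2, 3, 4, 6, 5, 4, 3, 2]]),
    (1, ![![0, 1, 0, 1, 0, 0, 0, 0], ![1, 0, 0, 0, 0, 0, 0, 0], ![0, 0, 0, 0, 1, 0, 0, 0], ![0, 0, 1, 1, 0, 0, 0, 0], ![-1, -1, -2, -2, -1, 0, 0, 0], ![0, 0, 0, -1, -1, -1, -1, 0], ![0, 0, 0, 0, 0, 0, 0, -1], ![2, 3, 4, 6, 5, 4, 3, 2]]),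
    (2, ![![0, 0, 0, 1, 0, 0, 0, 0], ![1, 0, 0, 0, 0, 0, 0, 0], ![0, 0, 0, 0, 1, 0, 0, 0], ![0, 1, 1, 1, 0, 0, 0, 0], ![-1, -1, -2, -2, -1, 0, 0, 0], ![0, -1, 0, -1, -1, -1, -1, 0], ![0, 0, 0, 0, 0, 0, 0, -1], ![2, 3, 4, 6, 5, 4, 3, 2]]),
    (0, ![![0, 0, 1, 1, 0, 0, 0, 0], ![1, 0, 1, 0, 0, 0, 0, 0], ![0, 0, 0, 0, 1, 0, 0, 0], ![0, 1, 0, 1, 0, 0, 0, 0], ![-1, -1, -1, -2, -1, 0, 0, 0], ![0, -1, -1, -1, -1, -1, -1, 0], ![0, 0, 0, 0, 0, 0, 0, -1], ![2, 3, 4, 6, 5, 4, 3, 2]]),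
    (3, ![![1, 0, 1, 1, 0, 0, 0, 0], ![0, 0, 1, 0, 0, 0, 0, 0], ![0, 0, 0, 0, 1, 0, 0, 0], ![0, 1, 0, 1, 0, 0, 0, 0], ![0, -1, -1, -2, -1, 0, 0, 0], ![-1, -1, -1, -1, -1, -1, -1, 0], ![0, 0, 0, 0, 0, 0, 0, -1], ![2, 3, 4, 6, 5, 4, 3, 2]]),
    (2, ![![1, 0, 1, 0, 0, 0, 0, 0], ![0, 0, 1, 1, 0, 0, 0, 0], ![0, 0, 0, 1, 1, 0, 0, 0], ![0, 1, 0, 0, 0, 0, 0, 0], ![0, -1, -1, -1, -1, 0, 0, 0], ![-1, -1, -1, -2, -1, -1, -1, 0], ![0, 0, 0, 0, 0, 0, 0, -1], ![2, 3, 4, 6, 5, 4, 3, 2]]),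
    (4, ![![1, 0, 0, 0, 0, 0, 0, 0], ![0, 0, 0, 1, 0, 0, 0, 0], ![0, 0, 1, 1, 1, 0, 0, 0], ![0, 1, 0, 0, 0, 0, 0, 0], ![0, -1, 0, -1, -1, 0, 0, 0], ![-1, -1, -2, -2, -1, -1, -1, 0], ![0, 0, 0, 0, 0, 0, 0, -1], ![2, 3, 4, 6, 5, 4, 3, 2]]),
    (3, ![![1, 0, 0, 0, 0, 0, 0, 0], ![0, 0, 0, 1, 1, 0, 0, 0], ![0, 0, 1, 1, 0, 0, 0, 0], ![0, 1, 0, 0, 0, 0, 0, 0], ![0, -1, 0, -1, 0, 0, 0, 0], ![-1, -1, -2, -2, -2, -1, -1, 0], ![0, 0, 0, 0, 0, 0, 0, -1], ![2, 3, 4, 6, 5, 4, 3, 2]]),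
    (1, ![![1, 0, 0, 0, 0, 0, 0, 0], ![0, 0, 0, 0, 1, 0, 0, 0], ![0, 0, 1, 0, 0, 0, 0, 0], ![0, 1, 0, 1, 0, 0, 0, 0], ![0, -1, 0, 0, 0, 0, 0, 0], ![-1, -1, -2, -3, -2, -1, -1, 0], ![0, 0, 0, 0, 0, 0, 0, -1], ![2, 3, 4, 6, 5, 4, 3, 2]]),
    (6, ![![1, 0, 0, 0, 0, 0, 0, 0], ![0, 0, 0, 0, 1, 0, 0, 0], ![0, 0, 1, 0, 0, 0, 0, 0], ![0, 0, 0, 1, 0, 0, 0, 0], ![0, 1, 0, 0, 0, 0, 0, 0], ![-1, -2, -2, -3, -2, -1, -1, 0], ![0, 0, 0, 0, 0, 0, 0, -1], ![2, 3, 4, 6, 5, 4, 3, 2]]),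
    (5, ![![1, 0, 0, 0, 0, 0, 0, 0], ![0, 0, 0, 0, 1, 0, 0, 0], ![0, 0, 1, 0, 0, 0, 0, 0], ![0, 0, 0, 1, 0, 0, 0, 0], ![0, 1, 0, 0, 0, 0, 0, 0], ![-1, -2, -2, -3, -2, -1, 0, 0], ![0, 0, 0, 0, 0, 0, -1, -1], ![2, 3, 4, 6, 5, 4, 3, 2]]),
    (4, ![![1, 0, 0, 0, 0, 0, 0, 0], ![0, 0, 0, 0, 1, 1, 0, 0], ![0, 0, 1, 0, 0, 0, 0, 0], ![0, 0, 0, 1, 0, 0, 0, 0], ![0, 1, 0, 0, 0, 0, 0, 0], ![-1, -2, -2, -3, -2, -1, 0, 0], ![0, 0, 0, 0, 0, -1, -1, -1], ![2, 3, 4, 6, 5, 4, 3, 2]]),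
    (3, ![![1, 0, 0, 0, 0, 0, 0, 0], ![0, 0, 0, 0, 0, 1, 0, 0], ![0, 0, 1, 0, 0, 0, 0, 0], ![0, 0, 0, 1, 1, 0, 0, 0], ![0, 1, 0, 0, 0, 0, 0, 0], ![-1, -2, -2, -3, -2, -1, 0, 0], ![0, 0, 0, 0, -1, -1, -1, -1], ![2, 3, 4, 6, 5, 4, 3, 2]]),
    (1, ![![1, 0, 0, 0, 0, 0, 0, 0], ![0, 0, 0, 0, 0, 1, 0, 0], ![0, 0, 1, 1, 0, 0, 0, 0], ![0, 0, 0, 0, 1, 0, 0, 0], ![0, 1, 0, 1, 0, 0, 0, 0], ![-1, -2, -2, -3, -2, -1, 0, 0], ![0, 0, 0, -1, -1, -1, -1, -1], ![2, 3, 4, 6, 5, 4, 3, 2]]),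
    (2, ![![1, 0, 0, 0, 0, 0, 0, 0], ![0, 0, 0, 0, 0, 1, 0, 0], ![0, 1, 1, 1, 0, 0, 0, 0], ![0, 0, 0, 0, 1, 0, 0, 0], ![0, 0, 0, 1, 0, 0, 0, 0], ![-1, -1, -2, -3, -2, -1, 0, 0], ![0, -1, 0, -1, -1, -1, -1, -1], ![2, 3, 4, 6, 5, 4, 3, 2]]),
    (0, ![![1, 0, 1, 0, 0, 0, 0, 0], ![0, 0, 0, 0, 0, 1, 0, 0], ![0, 1, 0, 1, 0, 0, 0, 0], ![0, 0, 0, 0, 1, 0, 0, 0], ![0, 0, 1, 1, 0, 0, 0, 0], ![-1, -1, -2, -3, -2, -1, 0, 0], ![0, -1, -1, -1, -1, -1, -1, -1], ![2, 3, 4, 6, 5, 4, 3, 2]]),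
    (3, ![![0, 0, 1, 0, 0, 0, 0, 0], ![0, 0, 0, 0, 0, 1, 0, 0], ![0, 1, 0, 1, 0, 0, 0, 0], ![0, 0, 0, 0, 1, 0, 0, 0], ![1, 0, 1, 1, 0, 0, 0, 0], ![-1, -1, -2, -3, -2, -1, 0, 0], ![-1, -1, -1, -1, -1, -1, -1, -1], ![2, 3, 4, 6, 5, 4, 3, 2]]),
    (2, ![![0, 0, 1, 1, 0, 0, 0, 0], ![0, 0, 0, 0, 0, 1, 0, 0], ![0, 1, 0, 0, 0, 0, 0, 0], ![0, 0, 0, 1, 1, 0, 0, 0], ![1, 0, 1, 0, 0, 0, 0, 0], ![-1, -1, -2, -2, -2, -1, 0, 0], ![-1, -1, -1, -2, -1, -1, -1, -1], ![2, 3, 4, 6, 5, 4, 3, 2]]),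
    (4, ![![0, 0, 0, 1, 0, 0, 0, 0], ![0, 0, 0, 0, 0, 1, 0, 0], ![0, 1, 0, 0, 0, 0, 0, 0], ![0, 0, 1, 1, 1, 0, 0, 0], ![1, 0, 0, 0, 0, 0, 0, 0], ![-1, -1, -1, -2, -2, -1, 0, 0], ![-1, -1, -2, -2, -1, -1, -1, -1], ![2, 3, 4, 6, 5, 4, 3, 2]]),
    (3, ![![0, 0, 0, 1, 1, 0, 0, 0], ![0, 0, 0, 0, 1, 1, 0, 0], ![0, 1, 0, 0, 0, 0, 0, 0], ![0, 0, 1, 1, 0, 0, 0, 0], ![1, 0, 0, 0, 0, 0, 0, 0], ![-1, -1, -1, -2, -1, -1, 0, 0], ![-1, -1, -2, -2, -2, -1, -1, -1], ![2, 3, 4, 6, 5, 4, 3, 2]]),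
    (1, ![![0, 0, 0, 0, 1, 0, 0, 0], ![0, 0, 0, 1, 1, 1, 0, 0], ![0, 1, 0, 1, 0, 0, 0, 0], ![0, 0, 1, 0, 0, 0, 0, 0], ![1, 0, 0, 0, 0, 0, 0, 0], ![-1, -1, -1, -1, -1, -1, 0, 0], ![-1, -1, -2, -3, -2, -1, -1, -1], ![2, 3, 4, 6, 5, 4, 3, 2]]),
    (5, ![![0, 0, 0, 0, 1, 0, 0, 0], ![0, 1, 0, 1, 1, 1, 0, 0], ![0, 0, 0, 1, 0, 0, 0, 0], ![0, 0, 1, 0, 0, 0, 0, 0], ![1, 0, 0, 0, 0, 0, 0, 0], ![-1, 0, -1, -1, -1, -1, 0, 0], ![-1, -2, -2, -3, -2, -1, -1, -1], ![2, 3, 4, 6, 5, 4, 3, 2]]),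
    (4, ![![0, 0, 0, 0, 1, 1, 0, 0], ![0, 1, 0, 1, 1, 0, 0, 0], ![0, 0, 0, 1, 0, 0, 0, 0], ![0, 0, 1, 0, 0, 0, 0, 0], ![1, 0, 0, 0, 0, 0, 0, 0], ![-1, 0, -1, -1, -1, 0, 0, 0], ![-1, -2, -2, -3, -2, -2, -1, -1], ![2, 3, 4, 6, 5, 4, 3, 2]]),
    (3, ![![0, 0, 0, 0, 0, 1, 0, 0], ![0, 1, 0, 1, 0, 0, 0, 0], ![0, 0, 0, 1, 1, 0, 0, 0], ![0, 0, 1, 0, 0, 0, 0, 0], ![1, 0, 0, 0, 0, 0, 0, 0], ![-1, 0, -1, -1, 0, 0, 0, 0], ![-1, -2, -2, -3, -3, -2, -1, -1], ![2, 3, 4, 6, 5, 4, 3, 2]]),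
    (2, ![![0, 0, 0, 0, 0, 1, 0, 0], ![0, 1, 0, 0, 0, 0, 0, 0], ![0, 0, 0, 0, 1, 0, 0, 0], ![0, 0, 1, 1, 0, 0, 0, 0], ![1, 0, 0, 0, 0, 0, 0, 0], ![-1, 0, -1, 0, 0, 0, 0, 0], ![-1, -2, -2, -4, -3, -2, -1, -1], ![2, 3, 4, 6, 5, 4, 3, 2]]),
    (0, ![![0, 0, 0, 0, 0, 1, 0, 0], ![0, 1, 0, 0, 0, 0, 0, 0], ![0, 0, 0, 0, 1, 0, 0, 0], ![0, 0, 0, 1, 0, 0, 0, 0], ![1, 0, 1, 0, 0, 0, 0, 0], ![-1, 0, 0, 0, 0, 0, 0, 0], ![-1, -2, -3, -4, -3, -2, -1, -1], ![2, 3, 4, 6, 5, 4, 3, 2]]),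
    (7, ![![0, 0, 0, 0, 0, 1, 0, 0], ![0, 1, 0, 0, 0, 0, 0, 0], ![0, 0, 0, 0, 1, 0, 0, 0], ![0, 0, 0, 1, 0, 0, 0, 0], ![0, 0, 1, 0, 0, 0, 0, 0], ![1, 0, 0, 0, 0, 0, 0, 0], ![-2, -2, -3, -4, -3, -2, -1, -1], ![2, 3, 4, 6, 5, 4, 3, 2]]),
    (6, ![![0, 0, 0, 0, 0, 1, 0, 0], ![0, 1, 0, 0, 0, 0, 0, 0], ![0, 0, 0, 0, 1, 0, 0, 0], ![0, 0, 0, 1, 0, 0, 0, 0], ![0, 0, 1, 0, 0, 0, 0, 0], ![1, 0, 0, 0, 0, 0, 0, 0], ![-2, -2, -3, -4, -3, -2, -1, 0], ![2, 3, 4, 6, 5, 4, 3, 1]]),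
    (5, ![![0, 0, 0, 0, 0, 1, 1, 0], ![0, 1, 0, 0, 0, 0, 0, 0], ![0, 0, 0, 0, 1, 0, 0, 0], ![0, 0, 0, 1, 0, 0, 0, 0], ![0, 0, 1, 0, 0, 0, 0, 0], ![1, 0, 0, 0, 0, 0, 0, 0], ![-2, -2, -3, -4, -3, -2, -1, 0], ![2, 3, 4, 6, 5, 4, 2, 1]]),
    (4, ![![0, 0, 0, 0, 0, 0, 1, 0], ![0, 1, 0, 0, 0, 0, 0, 0], ![0, 0, 0, 0, 1, 1, 0, 0], ![0, 0, 0, 1, 0, 0, 0, 0], ![0, 0, 1, 0, 0, 0, 0, 0], ![1, 0, 0, 0, 0, 0, 0, 0], ![-2, -2, -3, -4, -3, -2, -1, 0], ![2, 3, 4, 6, 5, 3, 2, 1]]),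
    (3, ![![0, 0, 0, 0, 0, 0, 1, 0], ![0, 1, 0, 0, 0, 0, 0, 0], ![0, 0, 0, 0, 0, 1, 0, 0], ![0, 0, 0, 1, 1, 0, 0, 0], ![0, 0, 1, 0, 0, 0, 0, 0], ![1, 0, 0, 0, 0, 0, 0, 0], ![-2, -2, -3, -4, -3, -2, -1, 0], ![2, 3, 4, 6, 4, 3, 2, 1]]),
    (1, ![![0, 0, 0, 0, 0, 0, 1, 0], ![0, 1, 0, 1, 0, 0, 0, 0], ![0, 0, 0, 0, 0, 1, 0, 0], ![0, 0, 0, 0, 1, 0, 0, 0], ![0, 0, 1, 1, 0, 0, 0, 0], ![1, 0, 0, 0, 0, 0, 0, 0], ![-2, -2, -3, -4, -3, -2, -1, 0], ![2, 3, 4, 5, 4, 3, 2, 1]]),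
    (2, ![![0, 0, 0, 0, 0, 0, 1, 0], ![0, 0, 0, 1, 0, 0, 0, 0], ![0, 0, 0, 0, 0, 1, 0, 0], ![0, 0, 0, 0, 1, 0, 0, 0], ![0, 1, 1, 1, 0, 0, 0, 0], ![1, 0, 0, 0, 0, 0, 0, 0], ![-2, -2, -3, -4, -3, -2, -1, 0], ![2, 2, 4, 5, 4, 3, 2, 1]]),
    (0, ![![0, 0, 0, 0, 0, 0, 1, 0], ![0, 0, 1, 1, 0, 0, 0, 0], ![0, 0, 0, 0, 0, 1, 0, 0], ![0, 0, 0, 0, 1, 0, 0, 0], ![0, 1, 0, 1, 0, 0, 0, 0], ![1, 0, 1, 0, 0, 0, 0, 0], ![-2, -2, -3, -4, -3, -2, -1, 0], ![2, 2, 3, 5, 4, 3, 2, 1]]),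
    (3, ![![0, 0, 0, 0, 0, 0, 1, 0], ![1, 0, 1, 1, 0, 0, 0, 0], ![0, 0, 0, 0, 0, 1, 0, 0], ![0, 0, 0, 0, 1, 0, 0, 0], ![0, 1, 0, 1, 0, 0, 0, 0], ![0, 0, 1, 0, 0, 0, 0, 0], ![-1, -2, -3, -4, -3, -2, -1, 0], ![1, 2, 3, 5, 4, 3, 2, 1]]),
    (2, ![![0, 0, 0, 0, 0, 0, 1, 0], ![1, 0, 1, 0, 0, 0, 0, 0], ![0, 0, 0, 0, 0, 1, 0, 0], ![0, 0, 0, 1, 1, 0, 0, 0], ![0, 1, 0, 0, 0, 0, 0, 0], ![0, 0, 1, 1, 0, 0, 0, 0], ![-1, -2, -3, -4, -3, -2, -1, 0], ![1, 2, 3, 4, 4, 3, 2, 1]]),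
    (4, ![![0, 0, 0, 0, 0, 0, 1, 0], ![1, 0, 0, 0, 0, 0, 0, 0], ![0, 0, 0, 0, 0, 1, 0, 0], ![0, 0, 1, 1, 1, 0, 0, 0], ![0, 1, 0, 0, 0, 0, 0, 0], ![0, 0, 0, 1, 0, 0, 0, 0], ![-1, -2, -2, -4, -3, -2, -1, 0], ![1, 2, 2, 4, 4, 3, 2, 1]]),
    (3, ![![0, 0, 0, 0, 0, 0, 1, 0], ![1, 0, 0, 0, 0, 0, 0, 0], ![0, 0, 0, 0, 1, 1, 0, 0], ![0, 0, 1, 1, 0, 0, 0, 0], ![0, 1, 0, 0, 0, 0, 0, 0], ![0, 0, 0, 1, 1, 0, 0, 0], ![-1, -2, -2, -4, -3, -2, -1, 0], ![1, 2, 2, 4, 3, 3, 2, 1]]),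
    (1, ![![0, 0, 0, 0, 0, 0, 1, 0], ![1, 0, 0, 0, 0, 0, 0, 0], ![0, 0, 0, 1, 1, 1, 0, 0], ![0, 0, 1, 0, 0, 0, 0, 0], ![0, 1, 0, 1, 0, 0, 0, 0], ![0, 0, 0, 0, 1, 0, 0, 0], ![-1, -2, -2, -3, -3, -2, -1, 0], ![1, 2, 2, 3, 3, 3, 2, 1]]),
    (5, ![![0, 0, 0, 0, 0, 0, 1, 0], ![1, 0, 0, 0, 0, 0, 0, 0], ![0, 1, 0, 1, 1, 1, 0, 0], ![0, 0, 1, 0, 0, 0, 0, 0], ![0, 0, 0, 1, 0, 0, 0, 0], ![0, 0, 0, 0, 1, 0, 0, 0], ![-1, -1, -2, -3, -3, -2, -1, 0], ![1, 1, 2, 3, 3, 3, 2, 1]]),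
    (4, ![![0, 0, 0, 0, 0, 1, 1, 0], ![1, 0, 0, 0, 0, 0, 0, 0], ![0, 1, 0, 1, 1, 0, 0, 0], ![0, 0, 1, 0, 0, 0, 0, 0], ![0, 0, 0, 1, 0, 0, 0, 0], ![0, 0, 0, 0, 1, 1, 0, 0], ![-1, -1, -2, -3, -3, -2, -1, 0], ![1, 1, 2, 3, 3, 2, 2, 1]]),
    (3, ![![0, 0, 0, 0, 1, 1, 1, 0], ![1, 0, 0, 0, 0, 0, 0, 0], ![0, 1, 0, 1, 0, 0, 0, 0], ![0, 0, 1, 0, 0, 0, 0, 0], ![0, 0, 0, 1, 1, 0, 0, 0], ![0, 0, 0, 0, 0, 1, 0, 0], ![-1, -1, -2, -3, -2, -2, -1, 0], ![1, 1, 2, 3, 2, 2, 2, 1]]),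
    (2, ![![0, 0, 0, 1, 1, 1, 1, 0], ![1, 0, 0, 0, 0, 0, 0, 0], ![0, 1, 0, 0, 0, 0, 0, 0], ![0, 0, 1, 1, 0, 0, 0, 0], ![0, 0, 0, 0, 1, 0, 0, 0], ![0, 0, 0, 0, 0, 1, 0, 0], ![-1, -1, -2, -2, -2, -2, -1, 0], ![1, 1, 2, 2, 2, 2, 2, 1]]),
    (0, ![![0, 0, 1, 1, 1, 1, 1, 0], ![1, 0, 1, 0, 0, 0, 0, 0], ![0, 1, 0, 0, 0, 0, 0, 0], ![0, 0, 0, 1, 0, 0, 0, 0], ![0, 0, 0, 0, 1, 0, 0, 0], ![0, 0, 0, 0, 0, 1, 0, 0], ![-1, -1, -1, -2, -2, -2, -1, 0], ![1, 1, 1, 2, 2, 2, 2, 1]]),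
    (6, ![![1, 0, 1, 1, 1, 1, 1, 0], ![0, 0, 1, 0, 0, 0, 0, 0], ![0, 1, 0, 0, 0, 0, 0, 0], ![0, 0, 0, 1, 0, 0, 0, 0], ![0, 0, 0, 0, 1, 0, 0, 0], ![0, 0, 0, 0, 0, 1, 0, 0], ![0, -1, -1, -2, -2, -2, -1, 0], ![0, 1, 1, 2, 2, 2, 2, 1]]),
    (5, ![![1, 0, 1, 1, 1, 1, 0, 0], ![0, 0, 1, 0, 0, 0, 0, 0], ![0, 1, 0, 0, 0, 0, 0, 0], ![0, 0, 0, 1, 0, 0, 0, 0], ![0, 0, 0, 0, 1, 0, 0, 0], ![0, 0, 0, 0, 0, 1, 1, 0], ![0, -1, -1, -2, -2, -2, -1, 0], ![0, 1, 1, 2, 2, 2, 1, 1]]),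
    (4, ![![1, 0, 1, 1, 1, 0, 0, 0], ![0, 0, 1, 0, 0, 0, 0, 0], ![0, 1, 0, 0, 0, 0, 0, 0], ![0, 0, 0, 1, 0, 0, 0, 0], ![0, 0, 0, 0, 1, 1, 0, 0], ![0, 0, 0, 0, 0, 0, 1, 0], ![0, -1, -1, -2, -2, -1, -1, 0], ![0, 1, 1, 2, 2, 1, 1, 1]]),
    (3, ![![1, 0, 1, 1, 0, 0, 0, 0], ![0, 0, 1, 0, 0, 0, 0, 0], ![0, 1, 0, 0, 0, 0, 0, 0], ![0, 0, 0, 1, 1, 0, 0, 0], ![0, 0, 0, 0, 0, 1, 0, 0], ![0, 0, 0, 0, 0, 0, 1, 0], ![0, -1, -1, -2, -1, -1, -1, 0], ![0, 1, 1, 2, 1, 1, 1, 1]]),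
    (1, ![![1, 0, 1, 0, 0, 0, 0, 0], ![0, 0, 1, 1, 0, 0, 0, 0], ![0, 1, 0, 1, 0, 0, 0, 0], ![0, 0, 0, 0, 1, 0, 0, 0], ![0, 0, 0, 0, 0, 1, 0, 0], ![0, 0, 0, 0, 0, 0, 1, 0], ![0, -1, -1, -1, -1, -1, -1, 0], ![0, 1, 1, 1, 1, 1, 1, 1]]),
    (2, ![![1, 0, 1, 0, 0, 0, 0, 0], ![0, 1, 1, 1, 0, 0, 0, 0], ![0, 0, 0, 1, 0, 0, 0, 0], ![0, 0, 0, 0, 1, 0, 0, 0], ![0, 0, 0, 0, 0, 1, 0, 0], ![0, 0, 0, 0, 0, 0, 1, 0], ![0, 0, -1, -1, -1, -1, -1, 0], ![0, 0, 1, 1, 1, 1, 1, 1]]),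
    (3, ![![1, 0, 0, 0, 0, 0, 0, 0], ![0, 1, 0, 1, 0, 0, 0, 0], ![0, 0, 1, 1, 0, 0, 0, 0], ![0, 0, 0, 0, 1, 0, 0, 0], ![0, 0, 0, 0, 0, 1, 0, 0], ![0, 0, 0, 0, 0, 0, 1, 0], ![0, 0, 0, -1, -1, -1, -1, 0], ![0, 0, 0, 1, 1, 1, 1, 1]]),
    (4, ![![1, 0, 0, 0, 0, 0, 0, 0], ![0, 1, 0, 0, 0, 0, 0, 0], ![0, 0, 1, 0, 0, 0, 0, 0], ![0, 0, 0, 1, 1, 0, 0, 0], ![0, 0, 0, 0, 0, 1, 0, 0], ![0, 0, 0, 0, 0, 0, 1, 0], ![0, 0, 0, 0, -1, -1, -1, 0], ![0, 0, 0, 0, 1, 1, 1, 1]]),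
    (5, ![![1, 0, 0, 0, 0, 0, 0, 0], ![0, 1, 0, 0, 0, 0, 0, 0], ![0, 0, 1, 0, 0, 0, 0, 0], ![0, 0, 0, 1, 0, 0, 0, 0], ![0, 0, 0, 0, 1, 1, 0, 0], ![0, 0, 0, 0, 0, 0, 1, 0], ![0, 0, 0, 0, 0, -1, -1, 0], ![0, 0, 0, 0, 0, 1, 1, 1]]),
    (6, ![![1, 0, 0, 0, 0, 0, 0, 0], ![0, 1, 0, 0, 0, 0, 0, 0], ![0, 0, 1, 0, 0, 0, 0, 0], ![0, 0, 0, 1, 0, 0, 0, 0], ![0, 0, 0, 0, 1, 0, 0, 0], ![0, 0, 0, 0, 0, 1, 1, 0], ![0, 0, 0, 0, 0, 0, -1, 0], ![0, 0, 0, 0, 0, 0, 1, 1]])]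

theorem hA : ∀ i j, Am i j = cartanOf chevE8 8 i j := by decide +kernel
theorem cv_ok : ChainOK Am cv := by decide +kernel
theorem cw_ok : ChainOK Am cw := by decide +kernel
theorem cm_ok : ChainOK Am cm := by decide +kernel
theorem comm_w : CommOK (hd cv) (hd cw) := by decide +kernel
theorem comm_m : CommOK (hd cv) (hd cm) := by decide +kernel

theorem loc_w3 {F : Type u} [Field F] [Fintype F] (hF : (11 : F) ≠ 0) (hq : (Fintype.card F : ZMod 11) = 3) :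
    Loc 11 5 ↥(chevE8.group F) :=
  loc_of_data (p := 11) e8T (by exact_mod_cast hF) invC_E8 hA cw_ok cv_ok comm_w (a := ![1, 5, 3, 9, 1, 0, 0, 0])
    (b := ![0, 0, 0, 0, 8, 5, 4, 1]) (by rw [hq]; decide +kernel) (by rw [hq]; decide +kernel) (s := 3) (n := 4)
    (by decide +kernel) (by decide +kernel) (by decide +kernel) (ord11_4) (z := sr 0) (by rw [lam_sr]; decide +kernel)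
    (by rw [lam_sr]; decide +kernel) (z' := sr 4) (by rw [lam_sr]; decide +kernel)

theorem loc_m8 {F : Type u} [Field F] [Fintype F] (hF : (11 : F) ≠ 0) (hq : (Fintype.card F : ZMod 11) = 8) :
    Loc 11 5 ↥(chevE8.group F) :=
  loc_of_data (p := 11) e8T (by exact_mod_cast hF) invC_E8 hA cm_ok cv_ok comm_m (a := ![1, 5, 3, 9, 1, 0, 0, 0])
    (b := ![0, 0, 0, 0, 8, 5, 4, 1]) (by rw [hq]; decide +kernel) (by rw [hq]; decide +kernel) (s := 3) (n := 4)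
    (by decide +kernel) (by decide +kernel) (by decide +kernel) (ord11_4) (z := sr 0) (by rw [lam_sr]; decide +kernel)
    (by rw [lam_sr]; decide +kernel) (z' := sr 4) (by rw [lam_sr]; decide +kernel)

theorem loc_w4 {F : Type u} [Field F] [Fintype F] (hF : (11 : F) ≠ 0) (hq : (Fintype.card F : ZMod 11) = 4) :
    Loc 11 5 ↥(chevE8.group F) :=
  loc_of_data (p := 11) e8T (by exact_mod_cast hF) invC_E8 hA cw_ok cv_ok comm_w (a := ![8, 6, 10, 7, 1, 0, 0, 0])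
    (b := ![0, 0, 0, 0, 3, 9, 3, 1]) (by rw [hq]; decide +kernel) (by rw [hq]; decide +kernel) (s := 4) (n := 3)
    (by decide +kernel) (by decide +kernel) (by decide +kernel) (ord11_3) (z := sr 0) (by rw [lam_sr]; decide +kernel)
    (by rw [lam_sr]; decide +kernel) (z' := sr 4) (by rw [lam_sr]; decide +kernel)

theorem loc_m7 {F : Type u} [Field F] [Fintype F] (hF : (11 : F) ≠ 0) (hq : (Fintype.card F : ZMod 11) = 7) :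
    Loc 11 5 ↥(chevE8.group F) :=
  loc_of_data (p := 11) e8T (by exact_mod_cast hF) invC_E8 hA cm_ok cv_ok comm_m (a := ![8, 6, 10, 7, 1, 0, 0, 0])
    (b := ![0, 0, 0, 0, 3, 9, 3, 1]) (by rw [hq]; decide +kernel) (by rw [hq]; decide +kernel) (s := 4) (n := 3)
    (by decide +kernel) (by decide +kernel) (by decide +kernel) (ord11_3) (z := sr 0) (by rw [lam_sr]; decide +kernel)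
    (by rw [lam_sr]; decide +kernel) (z' := sr 4) (by rw [lam_sr]; decide +kernel)

theorem loc_w5 {F : Type u} [Field F] [Fintype F] (hF : (11 : F) ≠ 0) (hq : (Fintype.card F : ZMod 11) = 5) :
    Loc 11 5 ↥(chevE8.group F) :=
  loc_of_data (p := 11) e8T (by exact_mod_cast hF) invC_E8 hA cw_ok cv_ok comm_w (a := ![9, 3, 1, 5, 1, 0, 0, 0])
    (b := ![0, 0, 0, 0, 1, 4, 9, 1]) (by rw [hq]; decide +kernel) (by rw [hq]; decide +kernel) (s := 5) (n := 9)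
    (by decide +kernel) (by decide +kernel) (by decide +kernel) (ord11_9) (z := sr 0) (by rw [lam_sr]; decide +kernel)
    (by rw [lam_sr]; decide +kernel) (z' := sr 4) (by rw [lam_sr]; decide +kernel)

theorem loc_m6 {F : Type u} [Field F] [Fintype F] (hF : (11 : F) ≠ 0) (hq : (Fintype.card F : ZMod 11) = 6) :
    Loc 11 5 ↥(chevE8.group F) :=
  loc_of_data (p := 11) e8T (by exact_mod_cast hF) invC_E8 hA cm_ok cv_ok comm_m (a := ![9, 3, 1, 5, 1, 0, 0, 0])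
    (b := ![0, 0, 0, 0, 1, 4, 9, 1]) (by rw [hq]; decide +kernel) (by rw [hq]; decide +kernel) (s := 5) (n := 9)
    (by decide +kernel) (by decide +kernel) (by decide +kernel) (ord11_9) (z := sr 0) (by rw [lam_sr]; decide +kernel)
    (by rw [lam_sr]; decide +kernel) (z' := sr 4) (by rw [lam_sr]; decide +kernel)

theorem loc_w9 {F : Type u} [Field F] [Fintype F] (hF : (11 : F) ≠ 0) (hq : (Fintype.card F : ZMod 11) = 9) :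
    Loc 11 5 ↥(chevE8.group F) :=
  loc_of_data (p := 11) e8T (by exact_mod_cast hF) invC_E8 hA cw_ok cv_ok comm_w (a := ![10, 8, 2, 7, 1, 0, 0, 0])
    (b := ![0, 0, 0, 0, 10, 3, 5, 1]) (by rw [hq]; decide +kernel) (by rw [hq]; decide +kernel) (s := 9) (n := 5)
    (by decide +kernel) (by decide +kernel) (by decide +kernel) (ord11_5) (z := sr 0) (by rw [lam_sr]; decide +kernel)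
    (by rw [lam_sr]; decide +kernel) (z' := sr 4) (by rw [lam_sr]; decide +kernel)

theorem loc_m2 {F : Type u} [Field F] [Fintype F] (hF : (11 : F) ≠ 0) (hq : (Fintype.card F : ZMod 11) = 2) :
    Loc 11 5 ↥(chevE8.group F) :=
  loc_of_data (p := 11) e8T (by exact_mod_cast hF) invC_E8 hA cm_ok cv_ok comm_m (a := ![10, 8, 2, 7, 1, 0, 0, 0])
    (b := ![0, 0, 0, 0, 10, 3, 5, 1]) (by rw [hq]; decide +kernel) (by rw [hq]; decide +kernel) (s := 9) (n := 5)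
    (by decide +kernel) (by decide +kernel) (by decide +kernel) (ord11_5) (z := sr 0) (by rw [lam_sr]; decide +kernel)
    (by rw [lam_sr]; decide +kernel) (z' := sr 4) (by rw [lam_sr]; decide +kernel)

end E8

/-- the characteristic is not `p` if `|F|` is a unit modulo `p` -/
theorem ne_zero_of_card {F : Type u} [Field F] [Fintype F] {p : ℕ} [hpp : Fact p.Prime]
    (h : (Fintype.card F : ZMod p) ≠ 0) : (p : F) ≠ 0 := by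
  intro h0
  apply h
  have hc : CharP F p := by
    obtain ⟨q, hq⟩ := CharP.exists F
    have h1 : q ∣ p := (CharP.cast_eq_zero_iff F q p).1 h0
    have hq1 : q.Prime := CharP.char_is_prime F q
    rwa [← (Nat.prime_dvd_prime_iff_eq hq1 hpp.out).1 h1]
  obtain ⟨n, -, h2⟩ := FiniteField.card F p
  rw [h2, Nat.cast_pow, ZMod.natCast_self, zero_pow n.pos.ne']

theorem cases7' : ∀ x : ZMod 7, x ≠ 0 → x ≠ 1 → x ^ 2 ≠ 1 → x = 2 ∨ x = 3 ∨ x = 4 ∨ x = 5 := by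
  decide +kernel

theorem cases11' : ∀ x : ZMod 11, x ≠ 0 → x ≠ 1 → x ^ 2 ≠ 1 →
    x = 2 ∨ x = 3 ∨ x = 4 ∨ x = 5 ∨ x = 6 ∨ x = 7 ∨ x = 8 ∨ x = 9 := by
  decide +kernel

theorem order_facts {p : ℕ} [hpp : Fact p.Prime] {x : ZMod p} {n : ℕ} (h : orderOf x = n) (hn : 3 ≤ n) :
    x ≠ 0 ∧ x ≠ 1 ∧ x ^ 2 ≠ 1 := by
  refine ⟨?_, ?_, ?_⟩
  · rintro rfl
    have h3 := pow_orderOf_eq_one (0 : ZMod p)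
    rw [h, zero_pow (by omega)] at h3
    exact zero_ne_one h3
  · rintro rfl
    rw [orderOf_one] at h
    omega
  · intro h2
    have := Nat.le_of_dvd (by norm_num) (orderOf_dvd_of_pow_eq_one h2)
    omega

/-- **`Loc 7 3 F₄(q)`**, `q` of order 3 or 6 modulo 7 (`7 ∣ q² + q + 1` or `7 ∣ q² - q + 1`). -/
theorem loc_f4 {F : Type u} [Field F] [Fintype F]
    (h : orderOf (Fintype.card F : ZMod 7) = 3 ∨ orderOf (Fintype.card F : ZMod 7) = 6) :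
    Loc 7 3 ↥(chevF4.group F) := by
  have : Fact (Nat.Prime 7) := ⟨by norm_num⟩
  have h1 : (Fintype.card F : ZMod 7) ≠ 0 ∧ (Fintype.card F : ZMod 7) ≠ 1 ∧ (Fintype.card F : ZMod 7) ^ 2 ≠ 1 := by
    rcases h with h | h
    · exact order_facts h (by norm_num)
    · exact order_facts h (by norm_num)
  have hF : (7 : F) ≠ 0 := by exact_mod_cast ne_zero_of_card (p := 7) h1.1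
  rcases cases7' _ h1.1 h1.2.1 h1.2.2 with h | h | h | h
  · exact F4.loc_w2 hF h
  · exact F4.loc_m3 hF h
  · exact F4.loc_w4 hF h
  · exact F4.loc_m5 hF h

/-- **`Loc 11 5 E₈(q)`**, `q` of order 5 or 10 modulo 11. -/
theorem loc_e8 {F : Type u} [Field F] [Fintype F]
    (h : orderOf (Fintype.card F : ZMod 11) = 5 ∨ orderOf (Fintype.card F : ZMod 11) = 10) :
    Loc 11 5 ↥(chevE8.group F) := by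
  have : Fact (Nat.Prime 11) := ⟨by norm_num⟩
  have h1 : (Fintype.card F : ZMod 11) ≠ 0 ∧ (Fintype.card F : ZMod 11) ≠ 1 ∧ (Fintype.card F : ZMod 11) ^ 2 ≠ 1 := by
    rcases h with h | h
    · exact order_facts h (by norm_num)
    · exact order_facts h (by norm_num)
  have hF : (11 : F) ≠ 0 := by exact_mod_cast ne_zero_of_card (p := 11) h1.1
  rcases cases11' _ h1.1 h1.2.1 h1.2.2 with h | h | h | h | h | h | h | h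
  · exact E8.loc_m2 hF h
  · exact E8.loc_w3 hF h
  · exact E8.loc_w4 hF h
  · exact E8.loc_w5 hF h
  · exact E8.loc_m6 hF h
  · exact E8.loc_m7 hF h
  · exact E8.loc_m8 hF h
  · exact E8.loc_w9 hF h

end Cfsg.Agent.H210.EL
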