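import Cfsg.Agent.H795.Untw
import Cfsg.Agent.H795.LangT
import Cfsg.Agent.H129.WData
import Cfsg.Agent.H795.TorsData
import Cfsg.Agent.H319.One.Base

/-!
# S4880, task EL: `Loc p e` for a Chevalley group from Weyl group data (helper210)

`w`, `v` commuting elements of the Weyl group (given by chains), `a`, `b` eigenvectors modulo `p` of `w` for the
eigenvalue `|F|`, `b` fixed by `v` and `a` an eigenvector of `v`.
-/

set_option autoImplicit false
set_option linter.unusedSectionVars false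

namespace Cfsg.Agent.H210.EL

open CoxeterSystem Cfsg Cfsg.Lie Cfsg.Lie.ChevalleyDatum
open Cfsg.Agent.ChevalleyStructure Cfsg.Agent.ChevalleyStructure.Elts Cfsg.Agent.ChevalleyStructure.CoxeterGeom
  Cfsg.Agent.ChevalleyStructure.CoxeterGeomTypes Cfsg.Agent.ChevalleyStructure.NPerm
open Cfsg.Agent.Tits.Roots Cfsg.Agent.Tits.Core Cfsg.Agent.Nodes Cfsg.Agent.Nodes.Reps Cfsg.Agent.Nodes.BNOf
  Cfsg.Agent.Nodes.RGDChev Cfsg.Agent.Nodes.Bruhat
open Cfsg.Agent.KFacts.RgdField Cfsg.Agent.KFacts.RgdChevCoord Cfsg.Agent.BpExc.TorCent Cfsg.Agent.BpExc.TorChev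
open Cfsg.Agent.GpExc.Field Cfsg.Agent.BpExc.Tow Cfsg.Agent.BpExc.TowChev Cfsg.Agent.BpExc.Fr
  Cfsg.Agent.BpExc.LangFr Cfsg.Agent.H795.SetCent Cfsg.Agent.H795.Toral Cfsg.Agent.H795.Core
  Cfsg.Agent.H795.RootConn Cfsg.Agent.H795.SetTor Cfsg.Agent.H129.TorusChar Cfsg.Agent.H129.TorusUntw
  Cfsg.Agent.H129.WData Cfsg.Agent.H795.Reduce Cfsg.Agent.H795.LangT
  Cfsg.Agent.BpExc Cfsg.Agent.H319.One

universe u

/-- the functional with coefficients `a` -/
def lam {l p : ℕ} (a : Fin l → ZMod p) (x : Fin l → ℤ) : ZMod p := ∑ n, (x n : ZMod p) * a n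

theorem lam_add {l p : ℕ} (a : Fin l → ZMod p) (x y : Fin l → ℤ) : lam a (x + y) = lam a x + lam a y := by
  unfold lam
  rw [← Finset.sum_add_distrib]
  refine Finset.sum_congr rfl fun n _ => ?_
  rw [Pi.add_apply, Int.cast_add, add_mul]

theorem lam_zero {l p : ℕ} (a : Fin l → ZMod p) : lam a 0 = 0 := by
  unfold lam
  refine Finset.sum_eq_zero fun n _ => ?_
  rw [Pi.zero_apply, Int.cast_zero, zero_mul]

theorem lam_sr {l p : ℕ} (a : Fin l → ZMod p) (i : Fin l) : lam a (sr i) = a i := by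
  unfold lam
  rw [Finset.sum_eq_single i]
  · rw [sr_self, Int.cast_one, one_mul]
  · intro j _ hj
    rw [sr_ne hj, Int.cast_zero, zero_mul]
  · intro hi
    exact absurd (Finset.mem_univ i) hi

/-- two additive functionals agreeing on the simple roots -/
theorem ext_sr {l : ℕ} {A : Type*} [AddCommGroup A] (f g : (Fin l → ℤ) →+ A) (h : ∀ i, f (sr i) = g (sr i))
    (x : Fin l → ℤ) : f x = g x := by
  rw [IsMC.eq_sum_sr x, map_sum, map_sum]
  refine Finset.sum_congr rfl fun i _ => ?_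
  rw [map_zsmul, map_zsmul, h]

/-- `lam` as an additive map -/
def lamHom {l p : ℕ} (a : Fin l → ZMod p) : (Fin l → ℤ) →+ ZMod p where
  toFun := lam a
  map_zero' := lam_zero a
  map_add' := lam_add a

section

variable {k : Type u} [Field k] {p : ℕ} [hpp : Fact p.Prime]

/-- the character `x ↦ ζ ^ (λ x)` -/
noncomputable def chr {l : ℕ} (ζ : k) (a : Fin l → ZMod p) (x : Fin l → ℤ) : k := ζ ^ (lam a x).val

theorem pow_val_mul {ζ : k} (hζ : ζ ^ p = 1) (a b : ZMod p) : ζ ^ (a * b).val = (ζ ^ a.val) ^ b.val := by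
  rw [← pow_mul, ZMod.val_mul]
  conv_rhs => rw [← Nat.mod_add_div (a.val * b.val) p, pow_add, pow_mul ζ p, hζ, one_pow, mul_one]

theorem pow_val_add {ζ : k} (hζ : ζ ^ p = 1) (a b : ZMod p) : ζ ^ (a + b).val = ζ ^ a.val * ζ ^ b.val := by
  rw [← pow_add, ZMod.val_add]
  conv_rhs => rw [← Nat.mod_add_div (a.val + b.val) p, pow_add, pow_mul ζ p, hζ, one_pow, mul_one]

theorem pow_val_cast {ζ : k} (hζ : ζ ^ p = 1) (n : ℕ) (a : ZMod p) : ζ ^ ((n : ZMod p) * a).val = (ζ ^ a.val) ^ n := by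
  rw [← pow_mul, ZMod.val_mul, ZMod.val_natCast]
  have h1 : (n % p * a.val) % p = (a.val * n) % p := by
    rw [Nat.mod_mul_mod, mul_comm]
  rw [h1]
  conv_rhs => rw [← Nat.mod_add_div (a.val * n) p, pow_add, pow_mul ζ p, hζ, one_pow, mul_one]

theorem isMC_chr {l : ℕ} {ζ : k} (hζ : ζ ^ p = 1) (a : Fin l → ZMod p) : IsMC (chr ζ a) where
  zero := by
    unfold chr
    rw [lam_zero, ZMod.val_zero, pow_zero]
  add x y := by
    unfold chr
    rw [lam_add, pow_val_add hζ]

end

/-- The matrix product check: `v w = w v`. -/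
def CommOK {l : ℕ} (V W : Mat l) : Prop := ∀ j m, ∑ n, V j n * W n m = ∑ n, W j n * V n m

instance instDecCommOK {l : ℕ} (V W : Mat l) : Decidable (CommOK V W) := by unfold CommOK; infer_instance

/-- `a` is an eigenvector of `W` with eigenvalue `s` modulo `p` -/
def EigOK {l p : ℕ} (W : Mat l) (s : ZMod p) (a : Fin l → ZMod p) : Prop :=
  ∀ j, ∑ n, (W j n : ZMod p) * a n = s * a j

instance instDecEigOK {l p : ℕ} (W : Mat l) (s : ZMod p) (a : Fin l → ZMod p) : Decidable (EigOK W s a) := by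
  unfold EigOK; infer_instance

variable {D : ChevalleyDatum} {l : ℕ} {M : CoxeterMatrix (Fin l)} (hp : IsType D l M)

theorem lam_rep {p : ℕ} {W : M.Group} {Wm : Mat l} (h : ∀ j, rep M.toCoxeterSystem hp.isCartan W (sr j) = Wm j)
    {s : ZMod p} {a : Fin l → ZMod p} (ha : EigOK Wm s a) (x : Fin l → ℤ) :
    lam a (rep M.toCoxeterSystem hp.isCartan W x) = s * lam a x := by
  have h1 := ext_sr ((lamHom a).comp (rep M.toCoxeterSystem hp.isCartan W).toAddMonoidHom)
    ((AddMonoidHom.mulLeft s).comp (lamHom a)) (fun i => by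
      show lam a (rep M.toCoxeterSystem hp.isCartan W (sr i)) = s * lam a (sr i)
      rw [h i, lam_sr]
      exact ha i) x
  exact h1

include hp in
/-- **`Loc p e` from Weyl group data.** -/
theorem loc_of_data {F : Type u} [Field F] [Fintype F] {p : ℕ} [hpp : Fact p.Prime] (hpF : (p : F) ≠ 0)
    {B : Fin l → Fin l → ℤ} (hB : InvC D l 1 B) {A : Mat l} (hA : ∀ i j, A i j = cartanOf D l i j)
    {Cw Cv : List (Fin l × Mat l)} (hw : ChainOK A Cw) (hv : ChainOK A Cv) (hc : CommOK (hd Cv) (hd Cw))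
    {a b : Fin l → ZMod p} (haw : EigOK (hd Cw) (Fintype.card F : ZMod p) a)
    (hbw : EigOK (hd Cw) (Fintype.card F : ZMod p) b) {s : ZMod p} {n : ℕ} (hsn : (n : ZMod p) * s = 1)
    (hav : EigOK (hd Cv) s a) (hbv : EigOK (hd Cv) 1 b) {e : ℕ} (he : orderOf (n : ZMod p) = e)
    {z : Fin l → ℤ} (hz1 : lam b z = 0) (hz2 : lam a z ≠ 0) {z' : Fin l → ℤ} (hz3 : lam b z' ≠ 0) :
    Loc p e ↥(D.group F) := by
  classical
  obtain ⟨r, e', hr, hrF, hrk, he', hq, hk⟩ := exists_closure (F := F) rfl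
  have hpr : p ≠ r := by
    rintro rfl
    exact hpF (CharP.cast_eq_zero F p)
  have hp1 : p.Prime := hpp.out
  let k := AlgebraicClosure F
  let f : F →+* k := algebraMap F (AlgebraicClosure F)
  -- the root of unity
  have hpk : (p : k) ≠ 0 := by
    intro h
    have h1 := (CharP.cast_eq_zero_iff k r p).1 h
    exact hpr.symm ((Nat.prime_dvd_prime_iff_eq hr.out hp1).1 h1)
  have : NeZero (p : k) := ⟨hpk⟩
  obtain ⟨ζ, hζ⟩ := HasEnoughRootsOfUnity.exists_primitiveRoot k p
  have hζp : ζ ^ p = 1 := hζ.pow_eq_one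
  have hζinj : ∀ c : ZMod p, ζ ^ c.val = 1 → c = 0 := by
    intro c h
    have h1 := (hζ.pow_eq_one_iff_dvd _).1 h
    have h2 : c.val < p := ZMod.val_lt c
    have h3 : c.val = 0 := Nat.eq_zero_of_dvd_of_lt h1 h2
    exact (ZMod.val_eq_zero c).1 h3
  -- the torus elements
  obtain ⟨ta, hta, hXa⟩ := exists_cX hp (k := k) hB one_ne_zero (isMC_chr hζp a) (fun i => ⟨_, pow_one _⟩)
  obtain ⟨tb, htb, hXb⟩ := exists_cX hp (k := k) hB one_ne_zero (isMC_chr hζp b) (fun i => ⟨_, pow_one _⟩)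
  -- the frame automorphism
  set σ := phi D k r e' with hσdef
  have hσ : IsFrob r e' σ := isFrob_phi
  have Fr0 : Fr M.toCoxeterSystem hp.isCartan (TT D k) (XX D l k) σ (AddEquiv.refl (Fin l → ℤ)) := fr_phi hp _
  have H := tow hp M.toCoxeterSystem hk r
  set w : M.Group := M.toCoxeterSystem.wordProd (Cw.map Prod.fst) with hwdef
  set v : M.Group := M.toCoxeterSystem.wordProd (Cv.map Prod.fst) with hvdef
  have hwr := chain_rep hp M.toCoxeterSystem hA hw
  have hvr := chain_rep hp M.toCoxeterSystem hA hv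
  rw [← hwdef] at hwr
  rw [← hvdef] at hvr
  obtain ⟨nw, hnw⟩ := exists_rp M.toCoxeterSystem H.nsys w
  obtain ⟨u, hu⟩ := lang_all hp M.toCoxeterSystem he' hσ Fr0 1 nw
  have hu' : nw = u⁻¹ * σ u := by
    rw [map_one, one_mul] at hu
    exact hu
  have Fr1 : Fr M.toCoxeterSystem hp.isCartan (TT D k) (XX D l k) (ct σ u)
      ((AddEquiv.refl (Fin l → ℤ)).trans (repAut M.toCoxeterSystem hp.isCartan w)) := by
    have h1 := Fr.conj H (by rw [hu'] at hnw; exact hnw : Rp M.toCoxeterSystem H.nsys w (u⁻¹ * σ u))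
    rw [TL_eq hp hk, XL_eq hp hk] at h1
    exact h1.mul Fr0
  have hσ1 : IsFrob r e' (ct σ u) := hσ.conj_mul _
  have hg1 : ∀ x, ((AddEquiv.refl (Fin l → ℤ)).trans (repAut M.toCoxeterSystem hp.isCartan w)) x =
      rep M.toCoxeterSystem hp.isCartan w x := fun x => rfl
  -- fixed
  have hfixt : ∀ {c : Fin l → ZMod p} (hcw : EigOK (hd Cw) (Fintype.card F : ZMod p) c) {t : ↥(D.group k)}
      (ht : t ∈ TT D k) (hX : ∀ x, cX hp t x = chr ζ c x), ct σ u t = t := by
    intro c hcw t ht hX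
    refine cX_inj hp ((Fr1.tor t).2 ht) ht fun i => ?_
    obtain ⟨y, hy⟩ := ((AddEquiv.refl (Fin l → ℤ)).trans (repAut M.toCoxeterSystem hp.isCartan w)).surjective (sr i)
    rw [← hy, cX_sigma hp M.toCoxeterSystem hσ1 Fr1 ht, hX, hX, hg1]
    unfold chr
    rw [lam_rep hp hwr hcw, pow_val_cast hζp, ← hq]
  have hfa := hfixt haw hta hXa
  have hfb := hfixt hbw htb hXb
  -- the lift of `v`
  have hcomm : ∀ x, rep M.toCoxeterSystem hp.isCartan v
      (((AddEquiv.refl (Fin l → ℤ)).trans (repAut M.toCoxeterSystem hp.isCartan w)) x) =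
      ((AddEquiv.refl (Fin l → ℤ)).trans (repAut M.toCoxeterSystem hp.isCartan w))
        (rep M.toCoxeterSystem hp.isCartan v x) := by
    intro x
    rw [hg1, hg1]
    have h1 := ext_sr ((rep M.toCoxeterSystem hp.isCartan v).toAddMonoidHom.comp
        (rep M.toCoxeterSystem hp.isCartan w).toAddMonoidHom)
      ((rep M.toCoxeterSystem hp.isCartan w).toAddMonoidHom.comp
        (rep M.toCoxeterSystem hp.isCartan v).toAddMonoidHom) (fun j => by
          show rep M.toCoxeterSystem hp.isCartan v (rep M.toCoxeterSystem hp.isCartan w (sr j)) =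
            rep M.toCoxeterSystem hp.isCartan w (rep M.toCoxeterSystem hp.isCartan v (sr j))
          funext m
          rw [H795.TorsData.rep_of_sr hp M.toCoxeterSystem hvr, H795.TorsData.rep_of_sr hp M.toCoxeterSystem hwr,
            hwr, hvr]
          exact (hc j m).symm) x
    exact h1
  obtain ⟨m, hm, hmf⟩ := exists_fixed_lift hp hk hB one_ne_zero he' hσ1 Fr1 hcomm
  -- back in the finite group
  have hback : ∀ {t : ↥(D.group k)}, ct σ u t = t → ∃ x : ↥(D.group F), emb hp.inList f x = u * t * u⁻¹ := by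
    intro t ht
    exact fix_range hp M.toCoxeterSystem f hq hB one_ne_zero (fun a => ⟨a, pow_one a⟩) (ct_fix.1 ht)
  obtain ⟨y, hy⟩ := hback hfa
  obtain ⟨x, hx⟩ := hback hfb
  obtain ⟨c, hcx⟩ := hback hmf
  have hinj := emb_injective hp.inList f
  -- orders
  have hord : ∀ {c : Fin l → ZMod p} {t : ↥(D.group k)} (ht : t ∈ TT D k) (hX : ∀ x, cX hp t x = chr ζ c x)
      {z : Fin l → ℤ} (hz : lam c z ≠ 0) {g : ↥(D.group F)} (hg : emb hp.inList f g = u * t * u⁻¹),
      orderOf g = p := by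
    intro c t ht hX z hz g hg
    rw [← orderOf_injective _ hinj g, hg]
    have h1 : orderOf (u * t * u⁻¹) = orderOf t :=
      orderOf_injective (MulAut.conj u).toMonoidHom (MulAut.conj u).injective t
    rw [h1]
    refine orderOf_eq_prime ?_ ?_
    · refine cX_inj hp (pow_mem ht p) (one_mem _) fun i => ?_
      rw [cX_pow hp ht, cX_one, hX]
      unfold chr
      rw [← pow_mul, mul_comm, pow_mul, hζp, one_pow]
    · intro h2
      apply hz
      apply hζinj
      have h3 := hX z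
      rw [h2, cX_one] at h3
      exact h3.symm
  have hma := rp_conj_mem hp hk hm hta
  have hmb := rp_conj_mem hp hk hm htb
  have hvx : ∀ x, ∃ y, rep M.toCoxeterSystem hp.isCartan v y = x := fun x =>
    (repAut M.toCoxeterSystem hp.isCartan v).surjective x
  refine ⟨x, y, c, n, hord htb hXb hz3 hx, hord hta hXa hz2 hy, ?_, ?_, ?_, ?_, he⟩
  · apply hinj
    rw [map_mul, map_mul, hx, hy]
    have h1 := TT_comm hp (K := k) _ hta _ htb
    calc u * tb * u⁻¹ * (u * ta * u⁻¹) = u * (tb * ta) * u⁻¹ := by group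
      _ = u * (ta * tb) * u⁻¹ := by rw [h1]
      _ = _ := by group
  · rintro ⟨j, hj⟩
    have h1 := congrArg (emb hp.inList f) hj
    have h1' : (emb hp.inList f) x ^ j = emb hp.inList f y := by
      rw [← map_zpow]; exact h1
    rw [hx, hy, conj_zpow] at h1'
    have h2 : tb ^ j = ta := mul_left_cancel (mul_right_cancel h1')
    -- characters at `z`
    apply hz2
    apply hζinj
    have hm1 : tb ^ (j % (p : ℤ)).toNat = ta := by
      have hpz : (p : ℤ) ≠ 0 := by exact_mod_cast hp1.ne_zero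
      have htp : tb ^ p = 1 := by
        refine cX_inj hp (pow_mem htb p) (one_mem _) fun i => ?_
        rw [cX_pow hp htb, cX_one, hXb]
        unfold chr
        rw [← pow_mul, mul_comm, pow_mul, hζp, one_pow]
      rw [← h2, ← zpow_natCast, Int.toNat_of_nonneg (Int.emod_nonneg _ hpz)]
      conv_rhs => rw [← Int.emod_add_mul_ediv j p, zpow_add, zpow_mul, zpow_natCast, htp, one_zpow, mul_one]
    have h3 := hXa z
    rw [← hm1, cX_pow hp htb, hXb] at h3
    unfold chr at h3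
    rw [hz1, ZMod.val_zero, pow_zero, one_pow] at h3
    exact h3.symm
  · apply hinj
    rw [map_mul, map_mul, hx, hcx]
    have h1 : m * tb * m⁻¹ = tb := by
      refine cX_inj hp hmb htb fun i => ?_
      obtain ⟨y', hy'⟩ := hvx (sr i)
      rw [← hy', cX_rp' hp hk hm htb, hXb, hXb]
      unfold chr
      rw [lam_rep hp hvr hbv, one_mul]
    have h2 : m * tb = tb * m := by
      rw [mul_inv_eq_iff_eq_mul] at h1
      exact h1
    calc u * m * u⁻¹ * (u * tb * u⁻¹) = u * (m * tb) * u⁻¹ := by group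
      _ = u * (tb * m) * u⁻¹ := by rw [h2]
      _ = _ := by group
  · apply hinj
    rw [map_mul, map_mul, map_inv, map_pow, hy, hcx]
    have h1 : m * ta * m⁻¹ = ta ^ n := by
      refine cX_inj hp hma (pow_mem hta n) fun i => ?_
      obtain ⟨y', hy'⟩ := hvx (sr i)
      rw [← hy', cX_rp' hp hk hm hta, cX_pow hp hta, hXa, hXa]
      unfold chr
      rw [lam_rep hp hvr hav, ← pow_val_cast hζp, ← mul_assoc, hsn, one_mul]
    calc u * m * u⁻¹ * (u * ta * u⁻¹) * (u * m * u⁻¹)⁻¹ = u * (m * ta * m⁻¹) * u⁻¹ := by group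
      _ = u * ta ^ n * u⁻¹ := by rw [h1]
      _ = _ := by rw [conj_pow]

end Cfsg.Agent.H210.EL
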